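import Cfsg.Agent.Lib.Classical.GeoFour.Full
import Cfsg.Agent.Lib.Classical.AschPrime.Basic

/-!
# Irreducible groups of degree three containing a full root group

Such a group contains `SL₃`: otherwise non-orthogonality of centres and axes would be symmetric,
and two centres would have to share an axis.
-/

set_option autoImplicit false
set_option linter.unusedSectionVars false
set_option backward.isDefEq.respectTransparency false

open Matrix Module

namespace CfsgLib.Classical.GeoThree

open CfsgLib.Classical.GeoFour (Full fullCentres mem_fullCentres sl_le_of_fullCentres)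

variable {F : Type*} [Field F] [Fintype F]

/-- All transvections with centre a multiple of `a` and axis the kernel of `φ` lie in `M`. -/
def Root (M : Subgroup (GL (Fin 3) F)) (a φ : Fin 3 → F) : Prop :=
  ∃ h : φ ⬝ᵥ a = 0, ∀ c : F, trGL (c • a) φ (by rw [dotProduct_smul, h, smul_zero]) ∈ M

variable {M : Subgroup (GL (Fin 3) F)} {a b φ ψ : Fin 3 → F}

theorem Root.perp (h : Root M a φ) : φ ⬝ᵥ a = 0 := h.1

theorem Root.mem (h : Root M a φ) (c : F) : trGL (c • a) φ (by rw [dotProduct_smul, h.1, smul_zero]) ∈ M :=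
  h.2 c

theorem Root.smul_left (h : Root M a φ) (k : F) : Root M (k • a) φ := by
  refine ⟨by rw [dotProduct_smul, h.perp, smul_zero], fun c => ?_⟩
  convert h.mem (c * k) using 2
  exact smul_smul c k a

theorem Root.add_left (ha : Root M a φ) (hb : Root M b φ) : Root M (a + b) φ := by
  refine ⟨by rw [dotProduct_add, ha.perp, hb.perp, add_zero], fun c => ?_⟩
  convert mul_mem (ha.mem c) (hb.mem c) using 1
  refine Units.ext (Matrix.ext_iff_mulVec.2 fun x => ?_)
  rw [Units.val_mul, ← mulVec_mulVec, trGL_mulVec, trGL_mulVec, trGL_mulVec, dotProduct_add,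
    dotProduct_smul, dotProduct_smul, hb.perp]
  simp only [smul_zero, add_zero, smul_add]
  abel

theorem Root.map (h : Root M a φ) {g : GL (Fin 3) F} (hg : g ∈ M) :
    Root M ((g : Matrix (Fin 3) (Fin 3) F) *ᵥ a)
      (φ ᵥ* ((g⁻¹ : GL (Fin 3) F) : Matrix (Fin 3) (Fin 3) F)) := by
  have hgi : ∀ x : Fin 3 → F, (φ ᵥ* ((g⁻¹ : GL (Fin 3) F) : Matrix (Fin 3) (Fin 3) F)) ⬝ᵥ
      ((g : Matrix (Fin 3) (Fin 3) F) *ᵥ x) = φ ⬝ᵥ x := fun x => by
    rw [← dotProduct_mulVec, mulVec_mulVec, ← Units.val_mul, inv_mul_cancel, Units.val_one, one_mulVec]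
  refine ⟨by rw [hgi, h.perp], fun c => ?_⟩
  have he : ∀ x : Fin 3 → F, (φ ⬝ᵥ x) • ((g : Matrix (Fin 3) (Fin 3) F) *ᵥ (c • a)) =
      ((φ ᵥ* ((g⁻¹ : GL (Fin 3) F) : Matrix (Fin 3) (Fin 3) F)) ⬝ᵥ ((g : Matrix (Fin 3) (Fin 3) F) *ᵥ x)) •
        (c • ((g : Matrix (Fin 3) (Fin 3) F) *ᵥ a)) := fun x => by rw [hgi, Matrix.mulVec_smul]
  rw [← SimMax.conj_eq_trGL (g := g) (h := by rw [dotProduct_smul, h.perp, smul_zero]) he]
  exact mul_mem (mul_mem hg (h.mem c)) (inv_mem hg)

/-- The commutator of two root groups meeting on one side. -/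
theorem Root.comm (ha : Root M a φ) (hb : Root M b ψ) (h0 : ψ ⬝ᵥ a = 0) (hk : φ ⬝ᵥ b ≠ 0) :
    Root M a ψ := by
  refine ⟨h0, fun c => ?_⟩
  have hA := ha.mem (c / (φ ⬝ᵥ b))
  have hB := hb.mem 1
  convert mul_mem (mul_mem (mul_mem hA hB) (inv_mem hA)) (inv_mem hB) using 1
  rw [eq_mul_inv_iff_mul_eq, eq_mul_inv_iff_mul_eq]
  refine Units.ext (Matrix.ext_iff_mulVec.2 fun x => ?_)
  simp only [Units.val_mul, ← mulVec_mulVec, trGL_mulVec, dotProduct_add, dotProduct_smul,
    hb.perp, h0, one_smul, smul_eq_mul, mul_zero, add_zero]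
  match_scalars <;> field_simp

/-- Two independent axes with one centre give every transvection with that centre. -/
theorem full_of_two (ha : a ≠ 0) (h₁ : Root M a φ) (h₂ : Root M a ψ)
    (hind : LinearIndependent F ![φ, ψ]) : Full M a := by
  intro f hf
  let A : Submodule F (Fin 3 → F) :=
    { carrier := {f | ∃ h : f ⬝ᵥ a = 0, ∀ c : F, trGL (c • a) f (by rw [dotProduct_smul, h, smul_zero]) ∈ M}
      add_mem' := by
        rintro f g ⟨hf, hf'⟩ ⟨hg, hg'⟩
        refine ⟨by rw [add_dotProduct, hf, hg, add_zero], fun c => ?_⟩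
        convert mul_mem (hf' c) (hg' c) using 1
        refine Units.ext (Matrix.ext_iff_mulVec.2 fun x => ?_)
        rw [Units.val_mul, ← mulVec_mulVec, trGL_mulVec, trGL_mulVec, trGL_mulVec, dotProduct_add,
          dotProduct_smul, dotProduct_smul, hf, smul_zero, smul_zero, add_zero, add_dotProduct,
          add_smul]
        abel
      zero_mem' := ⟨zero_dotProduct a, fun c => by
        rw [trGL_eq_one_of (Or.inr rfl)]; exact M.one_mem⟩
      smul_mem' := by
        rintro k f ⟨hf, hf'⟩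
        refine ⟨by rw [smul_dotProduct, hf, smul_zero], fun c => ?_⟩
        convert hf' (c * k) using 1
        refine Units.ext (Matrix.ext_iff_mulVec.2 fun x => ?_)
        rw [trGL_mulVec, trGL_mulVec, smul_dotProduct, smul_smul, smul_smul, smul_eq_mul]
        ring_nf }
  let K := LinearMap.ker (Fintype.linearCombination F a)
  have hK : ∀ f, f ∈ K ↔ f ⬝ᵥ a = 0 := fun f => by
    simp [K, LinearMap.mem_ker, Fintype.linearCombination_apply, dotProduct]
  have hspan : Submodule.span F (Set.range ![φ, ψ]) ≤ A ⊓ K := by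
    rw [Submodule.span_le]
    rintro _ ⟨i, rfl⟩
    fin_cases i
    · exact ⟨h₁, (hK _).2 h₁.perp⟩
    · exact ⟨h₂, (hK _).2 h₂.perp⟩
  have hK2 : finrank F K ≤ 2 := by
    have hne : LinearMap.range (Fintype.linearCombination F a) ≠ ⊥ := by
      rw [Ne, LinearMap.range_eq_bot]
      intro h
      refine ha (funext fun i => ?_)
      have := LinearMap.congr_fun h (Pi.single i 1)
      simpa [Fintype.linearCombination_apply, Pi.single_apply] using this
    have h1 := LinearMap.finrank_range_add_finrank_ker (Fintype.linearCombination F a)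
    rw [finrank_pi, Fintype.card_fin] at h1
    have h2 : finrank F (LinearMap.range (Fintype.linearCombination F a)) ≠ 0 := fun h =>
      hne (Submodule.finrank_eq_zero.1 h)
    change finrank F (LinearMap.ker (Fintype.linearCombination F a)) ≤ 2
    omega
  have heq : Submodule.span F (Set.range ![φ, ψ]) = K :=
    Submodule.eq_of_le_of_finrank_le (hspan.trans inf_le_right)
      (by rw [finrank_span_eq_card hind, Fintype.card_fin]; exact hK2)
  obtain ⟨_, hA⟩ := (hspan (heq.symm ▸ (hK f).2 hf)).1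
  simpa using hA 1

/-- An irreducible group of degree three with a full root group contains `SL₃`. -/
theorem sl_le_of_root (hirr : Cfsg.Geo.ActsIrreducibly (Cfsg.Geo.matrixSet M)) (ha : a ≠ 0)
    (hφ : φ ≠ 0) (hroot : Root M a φ) : Cfsg.Geo.specialLinear (Fin 3) F ≤ M := by
  by_contra hsl
  rw [AschPrime.irr_iff] at hirr
  -- no full centre
  have hnofull : ∀ x, Full M x → x = 0 := by
    intro x hx
    rcases hirr (fullCentres M) (fun s hs v hv => by
      obtain ⟨g, hg, rfl⟩ := hs
      exact Full.map hv hg) with h | h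
    · exact (Submodule.eq_bot_iff _).1 h x hx
    · exact absurd (sl_le_of_fullCentres h) hsl
  -- symmetry
  have hsym : ∀ {x y f g : Fin 3 → F}, x ≠ 0 → g ≠ 0 → Root M x f → Root M y g →
      g ⬝ᵥ x = 0 → f ⬝ᵥ y = 0 := by
    intro x y f g hx hg0 hf hg h0
    by_contra hk
    refine hx (hnofull x (full_of_two hx hf (hf.comm hg h0 hk) ?_))
    rw [LinearIndependent.pair_iff]
    intro s t hst
    have hs : s = 0 := by
      have := congrArg (fun v => v ⬝ᵥ y) hst
      simpa [add_dotProduct, hg.perp, hk] using this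
    refine ⟨hs, ?_⟩
    by_contra ht
    rw [hs, zero_smul, zero_add, smul_eq_zero] at hst
    rcases hst with h | h
    · exact ht h
    · exact hg0 h
  -- the conjugates of the root group
  have hconj : ∀ g ∈ M, ∃ ψ, ψ ≠ 0 ∧ (g : Matrix (Fin 3) (Fin 3) F) *ᵥ a ≠ 0 ∧
      Root M ((g : Matrix (Fin 3) (Fin 3) F) *ᵥ a) ψ := fun g hg => by
    refine ⟨_, fun h => hφ ?_, fun h => ha ?_, hroot.map hg⟩
    · have := congrArg (fun v => v ᵥ* (g : Matrix (Fin 3) (Fin 3) F)) h
      simpa [vecMul_vecMul, ← Units.val_mul] using this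
    · have := congrArg (fun v => ((g⁻¹ : GL (Fin 3) F) : Matrix (Fin 3) (Fin 3) F) *ᵥ v) h
      simpa [mulVec_mulVec, ← Units.val_mul] using this
  -- centres of conjugates avoid any proper subspace
  have hout : ∀ W : Submodule F (Fin 3 → F), W ≠ ⊤ → ∃ g ∈ M, (g : Matrix (Fin 3) (Fin 3) F) *ᵥ a ∉ W := by
    intro W hW
    by_contra h
    push Not at h
    let S : Submodule F (Fin 3 → F) :=
      Submodule.span F {v | ∃ g ∈ M, (g : Matrix (Fin 3) (Fin 3) F) *ᵥ a = v}
    rcases hirr S (fun s hs v hv => by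
      obtain ⟨g, hg, rfl⟩ := hs
      induction hv using Submodule.span_induction with
      | mem x hx =>
        obtain ⟨g', hg', rfl⟩ := hx
        refine Submodule.subset_span ⟨g * g', mul_mem hg hg', ?_⟩
        rw [Units.val_mul, mulVec_mulVec]
      | zero => rw [mulVec_zero]; exact zero_mem _
      | add x y _ _ hx hy => rw [mulVec_add]; exact add_mem hx hy
      | smul c x _ hx => rw [mulVec_smul]; exact Submodule.smul_mem _ c hx) with h' | h'
    · refine ha ((Submodule.eq_bot_iff _).1 h' a (Submodule.subset_span ⟨1, M.one_mem, ?_⟩))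
      rw [Units.val_one, one_mulVec]
    · refine hW (eq_top_iff.2 ?_)
      rw [← h', Submodule.span_le]
      rintro _ ⟨g, hg, rfl⟩
      exact h g hg
  have hkerne : ∀ f : Fin 3 → F, f ≠ 0 → LinearMap.ker (Fintype.linearCombination F f) ≠ ⊤ := by
    intro f hf h
    obtain ⟨i, hi⟩ := Function.ne_iff.1 hf
    have : Pi.single i 1 ∈ LinearMap.ker (Fintype.linearCombination F f) := h.symm ▸ Submodule.mem_top
    simp [LinearMap.mem_ker, Fintype.linearCombination_apply, Pi.single_apply] at this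
    exact hi this
  have hker : ∀ f v : Fin 3 → F, v ∈ LinearMap.ker (Fintype.linearCombination F f) ↔ f ⬝ᵥ v = 0 := fun f v => by
    simp [LinearMap.mem_ker, Fintype.linearCombination_apply, dotProduct, mul_comm]
  -- a pair generating the transvections of a plane
  obtain ⟨g, hg, hgb⟩ := hout _ (hkerne φ hφ)
  rw [hker] at hgb
  obtain ⟨ψ, hψ, hb, hrb⟩ := hconj g hg
  set b := (g : Matrix (Fin 3) (Fin 3) F) *ᵥ a
  have hψa : ψ ⬝ᵥ a ≠ 0 := fun h => hgb (hsym ha hψ hroot hrb h)
  have hab : LinearIndependent F ![a, b] := by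
    rw [LinearIndependent.pair_iff]
    intro s t hst
    have ht : t = 0 := by
      have := congrArg (fun v => φ ⬝ᵥ v) hst
      simpa [dotProduct_add, dotProduct_smul, hroot.perp, hgb] using this
    rw [ht, zero_smul, add_zero, smul_eq_zero] at hst
    exact ⟨hst.resolve_right ha, ht⟩
  set P := Submodule.span F (Set.range ![a, b]) with hP
  have hPtop : P ≠ ⊤ := fun h => by
    have := finrank_span_eq_card hab
    rw [← hP, h, finrank_top, finrank_pi] at this
    simp at this
  obtain ⟨g', hg', hc'⟩ := hout P hPtop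
  obtain ⟨χ, hχ, hc, hrc⟩ := hconj g' hg'
  set c := (g' : Matrix (Fin 3) (Fin 3) F) *ᵥ a
  -- the point of the plane on the axis of `χ`
  obtain ⟨d, hd0, hdP, hχd, δ, hδ, hrd⟩ : ∃ d, d ≠ 0 ∧ d ∈ P ∧ χ ⬝ᵥ d = 0 ∧ ∃ δ, δ ≠ 0 ∧ Root M d δ := by
    have haP : a ∈ P := Submodule.subset_span ⟨0, rfl⟩
    have hbP : b ∈ P := Submodule.subset_span ⟨1, rfl⟩
    by_cases hχa : χ ⬝ᵥ a = 0
    · exact ⟨a, ha, haP, hχa, φ, hφ, hroot⟩
    let k := -(χ ⬝ᵥ b) / (χ ⬝ᵥ a)
    refine ⟨k • a + b, fun h => ?_, add_mem (Submodule.smul_mem _ _ haP) hbP, ?_, ?_⟩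
    · have := (LinearIndependent.pair_iff.1 hab k 1 (by rwa [one_smul])).2
      exact one_ne_zero this
    · rw [dotProduct_add, dotProduct_smul, smul_eq_mul, div_mul_cancel₀ _ hχa, neg_add_cancel]
    · have hm := hrb.map (hroot.mem (k / (φ ⬝ᵥ b)))
      rw [trGL_mulVec, smul_smul, mul_div_cancel₀ _ hgb, add_comm] at hm
      refine ⟨_, fun h => hψ ?_, hm⟩
      have h2 := congrArg
        (fun v => v ᵥ* (trGL ((k / (φ ⬝ᵥ b)) • a) φ (by
          rw [dotProduct_smul, hroot.perp, smul_zero]) : Matrix (Fin 3) (Fin 3) F)) h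
      simp only [vecMul_vecMul, ← Units.val_mul, inv_mul_cancel, Units.val_one, vecMul_one,
        zero_vecMul] at h2
      exact h2
  have hδc : δ ⬝ᵥ c = 0 := hsym hd0 hχ hrd hrc hχd
  -- the two axes coincide
  obtain ⟨k, rfl⟩ : ∃ k : F, χ = k • δ := by
    by_contra hne
    have hind : LinearIndependent F ![δ, χ] :=
      (LinearIndependent.pair_iff' hδ).2 fun t h => hne ⟨t, h.symm⟩
    let K := LinearMap.ker (Fintype.linearCombination F δ) ⊓ LinearMap.ker (Fintype.linearCombination F χ)
    have hcd : LinearIndependent F ![c, d] :=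
      (LinearIndependent.pair_iff' hc).2 fun t ht => by
        rcases eq_or_ne t 0 with rfl | h
        · exact hd0 (by rw [← ht, zero_smul])
        · exact hc' (by rw [← inv_smul_smul₀ h c, ht]; exact Submodule.smul_mem _ _ hdP)
    let N : Matrix (Fin 2) (Fin 3) F := Matrix.of ![δ, χ]
    have hle : Submodule.span F (Set.range ![c, d]) ≤ LinearMap.ker N.mulVecLin := by
      rw [Submodule.span_le]
      rintro _ ⟨i, rfl⟩
      refine LinearMap.mem_ker.2 (funext fun j => ?_)
      fin_cases i <;> fin_cases j <;> simp [N, Matrix.mulVec, hδc, hχd, hrd.perp, hrc.perp]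
    have h1 := Submodule.finrank_mono hle
    rw [finrank_span_eq_card hcd] at h1
    have h2 := LinearMap.finrank_range_add_finrank_ker N.mulVecLin
    have h3 : finrank F (LinearMap.range N.mulVecLin) = 2 :=
      (LinearIndependent.rank_matrix (M := N) hind).trans (Fintype.card_fin 2)
    rw [finrank_pi, h3] at h2
    simp at h1 h2
    omega
  have hk : k ≠ 0 := fun h => hχ (by rw [h, zero_smul])
  have hrc' : Root M c δ := by
    refine ⟨hδc, fun t => ?_⟩
    convert hrc.mem (t / k) using 1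
    refine Units.ext (Matrix.ext_iff_mulVec.2 fun x => ?_)
    rw [trGL_mulVec, trGL_mulVec, smul_dotProduct, smul_smul, smul_smul, smul_eq_mul]
    congr 2
    field_simp
  -- a centre off the common axis
  obtain ⟨g'', hg'', he'⟩ := hout _ (hkerne δ hδ)
  rw [hker] at he'
  obtain ⟨η, hη, he, hre⟩ := hconj g'' hg''
  set e := (g'' : Matrix (Fin 3) (Fin 3) F) *ᵥ a
  have hηd : η ⬝ᵥ d ≠ 0 := fun h => he' (hsym hd0 hη hrd hre h)
  set x := (η ⬝ᵥ d) • c + (-(η ⬝ᵥ c)) • d
  have hx : x ≠ 0 := fun h => by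
    refine hc' ?_
    have : c = (η ⬝ᵥ d)⁻¹ • (η ⬝ᵥ c) • d := by
      rw [eq_inv_smul_iff₀ hηd, ← sub_eq_zero, sub_eq_add_neg, ← neg_smul]
      exact h
    rw [this]
    exact Submodule.smul_mem _ _ (Submodule.smul_mem _ _ hdP)
  exact he' (hsym hx hη ((hrc'.smul_left _).add_left (hrd.smul_left _)) hre (by
    simp [x, dotProduct_add, dotProduct_smul, mul_comm]))

/-- Over a prime field a transvection gives its root group. -/
theorem root_of_prime (hp : (Fintype.card F).Prime) {a φ : Fin 3 → F} (h : φ ⬝ᵥ a = 0)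
    (hmem : trGL a φ h ∈ M) : Root M a φ := by
  haveI : Fact (Fintype.card F).Prime := ⟨hp⟩
  haveI : CharP F (Fintype.card F) := charP_of_card_eq_prime rfl
  refine ⟨h, fun c => ?_⟩
  obtain ⟨k, rfl⟩ := (ZMod.ringEquivOfPrime F hp rfl).surjective c
  obtain ⟨n, rfl⟩ := ZMod.natCast_zmod_surjective k
  rw [map_natCast]
  induction n with
  | zero => simp only [Nat.cast_zero, zero_smul]; rw [trGL_eq_one_of (Or.inl rfl)]; exact M.one_mem
  | succ n ih =>
    convert mul_mem ih hmem using 1
    refine Units.ext (Matrix.ext_iff_mulVec.2 fun x => ?_)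
    rw [Units.val_mul, ← mulVec_mulVec, trGL_mulVec, trGL_mulVec, trGL_mulVec, dotProduct_add,
      dotProduct_smul, h, smul_zero, add_zero, Nat.cast_succ, add_smul, one_smul, smul_add]
    abel

end CfsgLib.Classical.GeoThree
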