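import Cfsg.Agent.Lib.Classical.DecompMax.Mono
import Cfsg.Agent.Lib.Classical.GeoFour.Decomp

/-!
# In dimension three the overgroups of the monomial group contain a transvection

The steps: an element fixing an axis, an element with a zero entry, and an element without zero entries (where
cyclic shifts of the products `g i q * g⁻¹ q j` give three ways of producing a zero).
-/

set_option autoImplicit false
set_option linter.unusedSectionVars false
set_option linter.unusedSimpArgs false

namespace CfsgLib.Classical.GeoThree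

open Matrix DecompMax

variable {F : Type*} [Field F] {S : Set (Matrix (Fin 3) (Fin 3) F)} (hS : MonOver S)

/-- A sign making a permutation matrix of determinant one. -/
def sg (σ : Equiv.Perm (Fin 3)) : Fin 3 → F := Function.update 1 0 (σ.sign : F)

theorem sg_ne_zero (σ : Equiv.Perm (Fin 3)) (q : Fin 3) : sg (F := F) σ q ≠ 0 := by
  by_cases h : q = 0
  · subst h
    simp only [sg, Function.update_self]
    rcases Int.units_eq_one_or σ.sign with e | e <;> simp [e]
  · simp [sg, Function.update_of_ne h]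

include hS in
theorem smon_mem (σ : Equiv.Perm (Fin 3)) : mon σ (sg σ) ∈ S := by
  refine hS.mon_mem _ _ ?_
  rw [det_mon, sg, Finset.prod_update_of_mem (Finset.mem_univ _), Finset.prod_eq_one (fun q _ => by simp), mul_one]
  rcases Int.units_eq_one_or σ.sign with e | e <;> simp [e]

theorem mon_mul_apply (σ : Equiv.Perm (Fin 3)) (d : Fin 3 → F) (A : Matrix (Fin 3) (Fin 3) F) (p q : Fin 3) :
    (mon σ d * A) (σ p) q = d p * A p q := by
  rw [mul_apply, Finset.sum_eq_single p (fun b _ hb => by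
    rw [mon_apply, if_neg (fun e => hb (σ.injective e).symm), zero_mul]) (by simp), mon_apply, if_pos rfl]

/-- Permute the rows by `σ` and the columns by `τ`. -/
def shift (σ τ : Equiv.Perm (Fin 3)) (y : Matrix (Fin 3) (Fin 3) F) : Matrix (Fin 3) (Fin 3) F :=
  mon σ (sg σ) * y * mon τ (sg τ)

theorem shift_apply (σ τ : Equiv.Perm (Fin 3)) (y : Matrix (Fin 3) (Fin 3) F) (p q : Fin 3) :
    shift σ τ y (σ p) q = sg σ p * y p (τ q) * sg τ q := by
  rw [shift, mul_mon_apply, mon_mul_apply]

theorem shift_ne_zero (σ τ : Equiv.Perm (Fin 3)) (y : Matrix (Fin 3) (Fin 3) F) (p q : Fin 3) :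
    shift σ τ y (σ p) q ≠ 0 ↔ y p (τ q) ≠ 0 := by
  rw [shift_apply]
  simp [sg_ne_zero]

theorem shift_not_isMon {σ τ : Equiv.Perm (Fin 3)} {y : Matrix (Fin 3) (Fin 3) F} (h : ¬ IsMon y) :
    ¬ IsMon (shift σ τ y) := fun hm => h fun p p' q hp hp' => by
  obtain ⟨q, rfl⟩ := τ.surjective q
  exact σ.injective (hm _ _ q ((shift_ne_zero σ τ y p q).2 hp) ((shift_ne_zero σ τ y p' q).2 hp'))

include hS in
theorem shift_mem (σ τ : Equiv.Perm (Fin 3)) {y : Matrix (Fin 3) (Fin 3) F} (hy : y ∈ S) : shift σ τ y ∈ S :=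
  hS.closed.mul (hS.closed.mul (smon_mem hS σ) hy) (smon_mem hS τ)

include hS in
/-- A row transvection gives an elementary one. -/
theorem hasTv_of_row [Fintype F] (h5 : 5 ≤ Fintype.card F) {σ : Fin 3 → F} (hσ0 : σ 0 = 0) (hσ : σ ≠ 0)
    (h : DecompMax.tv (Pi.single 0 1) σ ∈ S) : HasTv S := by
  obtain ⟨k, hk⟩ := Function.ne_iff.1 hσ
  simp only [Pi.zero_apply] at hk
  have hk0 : k ≠ 0 := fun e => hk (e ▸ hσ0)
  obtain ⟨μ, hμ0, hμ3⟩ : ∃ μ : F, μ ≠ 0 ∧ μ * μ * μ ≠ 1 := by
    classical
    by_contra hall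
    push Not at hall
    obtain ⟨x, hx0, hx1, -, -⟩ := exists_avoid h5 1 1 1
    obtain ⟨y, hy0, hy1, hyx, -⟩ := exists_avoid h5 1 x x
    obtain ⟨z, hz0, hz1, hzx, hzy⟩ := exists_avoid h5 1 x y
    have h1 : x * x + x + 1 = 0 :=
      (mul_eq_zero.1 (show (x - 1) * (x * x + x + 1) = 0 by linear_combination hall x hx0)).resolve_left
        (sub_ne_zero.2 hx1)
    have h2 : y * y + y + 1 = 0 :=
      (mul_eq_zero.1 (show (y - 1) * (y * y + y + 1) = 0 by linear_combination hall y hy0)).resolve_left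
        (sub_ne_zero.2 hy1)
    have h3 : z * z + z + 1 = 0 :=
      (mul_eq_zero.1 (show (z - 1) * (z * z + z + 1) = 0 by linear_combination hall z hz0)).resolve_left
        (sub_ne_zero.2 hz1)
    have e1 : y + x + 1 = 0 :=
      (mul_eq_zero.1 (show (y - x) * (y + x + 1) = 0 by linear_combination h2 - h1)).resolve_left (sub_ne_zero.2 hyx)
    have e2 : z + x + 1 = 0 :=
      (mul_eq_zero.1 (show (z - x) * (z + x + 1) = 0 by linear_combination h3 - h1)).resolve_left (sub_ne_zero.2 hzx)
    exact hzy (by linear_combination e2 - e1)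
  set d : Fin 3 → F := fun q => if q = k then (μ * μ)⁻¹ else μ with hd
  have hd0 : ∀ q, d q ≠ 0 := fun q => by simp only [hd]; split_ifs <;> simp [hμ0]
  have hprod : ∏ q, d q = 1 := by
    rw [Fin.prod_univ_three]
    fin_cases k <;> simp [hd] <;> field_simp
  have h1 := hS.closed.conj (hS.diag_mem hprod) (mon_mul_inv 1 hd0) h
  rw [mon_conj_tv 1 hd0] at h1
  have h2 := hS.closed.inv_mem h (DecompMax.tv_mul_neg _ σ (by rw [dotProduct_single, hσ0, zero_mul]))
  rw [← neg_one_smul F (Pi.single (0 : Fin 3) (1 : F) : Fin 3 → F), DecompMax.tv_smul, neg_one_smul] at h2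
  have ev : mvec 1 d (Pi.single (0 : Fin 3) (1 : F)) = μ • Pi.single 0 1 := by
    funext p
    by_cases hp : p = 0
    · subst hp; simp [mvec, hd, Ne.symm hk0]
    · simp [mvec, hp]
  rw [ev, DecompMax.tv_smul] at h1
  have h3 := hS.closed.mul h1 h2
  rw [DecompMax.tv_mul_same_left _ _ _ (by rw [dotProduct_single]; simp [mcov, hσ0])] at h3
  refine ⟨0, k, (μ * μ * μ - 1) * σ k, Ne.symm hk0, mul_ne_zero (sub_ne_zero.2 hμ3) hk, ?_⟩
  convert h3 using 1
  rw [DecompMax.transvection_eq_tv]
  ext i j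
  simp only [DecompMax.tv_apply, Pi.single_apply]
  by_cases hi : i = 0
  swap
  · simp [hi]
  subst hi
  by_cases hj : j = k
  · subst hj; simp [mcov, hd]; field_simp; ring
  · simp [mcov, hd, hj]; field_simp; ring

/-- A block matrix. -/
def blk (x a b c d : F) : Matrix (Fin 3) (Fin 3) F := !![x, 0, 0; 0, a, b; 0, c, d]

theorem blk_mul (x a b c d x' a' b' c' d' : F) : blk x a b c d * blk x' a' b' c' d' =
    blk (x * x') (a * a' + b * c') (a * b' + b * d') (c * a' + d * c') (c * b' + d * d') := by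
  ext i j
  fin_cases i <;> fin_cases j <;> simp [blk, Matrix.mul_apply, Fin.sum_univ_three]

theorem det_blk (x a b c d : F) : (blk x a b c d).det = x * (a * d - b * c) := by
  simp [blk, Matrix.det_fin_three]; ring

include hS in
theorem blk_diag_mem {x a d : F} (h : x * a * d = 1) : blk x a 0 0 d ∈ S := by
  have e : blk x a 0 0 d = mon (1 : Equiv.Perm (Fin 3)) ![x, a, d] := by
    ext i j
    fin_cases i <;> fin_cases j <;> simp [blk, mon_apply]
  rw [e]
  exact hS.diag_mem (by rw [Fin.prod_univ_three]; simpa using h)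

include hS in
theorem blk_swap_mem : blk (-1 : F) 0 1 1 0 ∈ S := by
  have e : blk (-1 : F) 0 1 1 0 = mon (Equiv.swap (1 : Fin 3) 2) ![-1, 1, 1] := by
    ext i j
    fin_cases i <;> fin_cases j <;> simp [blk, mon_apply, Equiv.swap_apply_def]
  rw [e]
  exact hS.mon_mem _ _ (by rw [← e, det_blk]; ring)

include hS in
theorem hasTv_of_upper {x a b d : F} (ha : a ≠ 0) (hd : d ≠ 0) (hb : b ≠ 0) (h : blk x a b 0 d ∈ S) : HasTv S := by
  have hdet := hS.det_eq h
  rw [det_blk] at hdet
  have h1 := hS.closed.mul h (blk_diag_mem hS (x := a * d) (a := a⁻¹) (d := d⁻¹) (by field_simp))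
  rw [blk_mul] at h1
  refine ⟨1, 2, b / d, by decide, div_ne_zero hb hd, ?_⟩
  convert h1 using 1
  ext i j
  fin_cases i <;> fin_cases j <;> simp [blk, transvection, Matrix.one_apply] <;> field_simp
  linear_combination -hdet

include hS in
theorem hasTv_of_lower {x a c d : F} (ha : a ≠ 0) (hd : d ≠ 0) (hc : c ≠ 0) (h : blk x a 0 c d ∈ S) : HasTv S := by
  refine hasTv_of_transpose (hasTv_of_upper hS.transpose ha hd hc (x := x) ?_)
  show (blk x a c 0 d)ᵀ ∈ S
  convert h using 1
  ext i j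
  fin_cases i <;> fin_cases j <;> simp [blk]

include hS in
/-- A block with a zero entry which is not monomial. -/
theorem hasTv_of_blk_zero {x a b c d : F} (h : blk x a b c d ∈ S) (hz : a = 0 ∨ b = 0 ∨ c = 0 ∨ d = 0)
    (hmon : ¬ (a = 0 ∧ d = 0) ∧ ¬ (b = 0 ∧ c = 0)) : HasTv S := by
  have hdet := hS.det_eq h
  rw [det_blk] at hdet
  have hsw := hS.closed.mul h (blk_swap_mem hS)
  rw [blk_mul] at hsw
  simp only [mul_zero, mul_one, zero_add, add_zero] at hsw
  rcases hz with rfl | rfl | rfl | rfl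
  · have hbc : b * c ≠ 0 := fun e => by simp [e] at hdet
    exact hasTv_of_lower hS (left_ne_zero_of_mul hbc) (right_ne_zero_of_mul hbc)
      (fun e => hmon.1 ⟨rfl, e⟩) hsw
  · have had : a * d ≠ 0 := fun e => by simp [e] at hdet
    exact hasTv_of_lower hS (left_ne_zero_of_mul had) (right_ne_zero_of_mul had) (fun e => hmon.2 ⟨rfl, e⟩) h
  · have had : a * d ≠ 0 := fun e => by simp [e] at hdet
    exact hasTv_of_upper hS (left_ne_zero_of_mul had) (right_ne_zero_of_mul had) (fun e => hmon.2 ⟨e, rfl⟩) h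
  · have hbc : b * c ≠ 0 := fun e => by simp [e] at hdet
    exact hasTv_of_upper hS (left_ne_zero_of_mul hbc) (right_ne_zero_of_mul hbc) (fun e => hmon.1 ⟨e, rfl⟩) hsw

/-- The normal form of a block without zero entries. -/
def hm (v : F) : Matrix (Fin 3) (Fin 3) F := blk (v - 1)⁻¹ 1 1 1 v

include hS in
theorem hm_of_blk {x a b c d : F} (ha : a ≠ 0) (hb : b ≠ 0) (hc : c ≠ 0) (h : blk x a b c d ∈ S) :
    hm (a * d / (b * c)) ∈ S := by
  have hdet := hS.det_eq h
  rw [det_blk] at hdet
  have h1 := hS.closed.mul (hS.closed.mul (blk_diag_mem hS (x := c / a) (a := 1) (d := a / c) (by field_simp)) h)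
    (blk_diag_mem hS (x := a * b) (a := a⁻¹) (d := b⁻¹) (by field_simp))
  rw [blk_mul, blk_mul] at h1
  have e : (a * d / (b * c) - 1)⁻¹ = c / a * x * (a * b) := inv_eq_of_mul_eq_one_right (by
    field_simp
    linear_combination hdet)
  unfold hm
  rw [e]
  convert h1 using 2 <;> field_simp <;> ring

include hS in
theorem hasTv_of_hm {v : F} (hv : v * v ≠ 1) (h : hm v ∈ S) : HasTv S := by
  have hv1 : 1 - v ≠ 0 := sub_ne_zero.2 fun e => hv (by rw [← e, one_mul])
  have hv2 : 1 - v * v ≠ 0 := sub_ne_zero.2 (Ne.symm hv)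
  have h1 := hS.closed.mul (hS.closed.mul h (blk_diag_mem hS (x := -1) (a := 1) (d := -1) (by ring))) h
  rw [hm, blk_mul, blk_mul] at h1
  refine hasTv_of_blk_zero hS h1 (Or.inl (by ring)) ⟨fun e => hv2 ?_, fun e => hv1 ?_⟩
  · linear_combination e.2
  · linear_combination e.1

include hS in
theorem hm_neg_one_square {s : F} (hs : s ≠ 0) (hsp : 1 + s ≠ 0) (hsm : 1 - s ≠ 0) (h : hm (-1 : F) ∈ S) :
    hm ((1 + s) * (1 + s) / ((1 - s) * (1 - s))) ∈ S := by
  have h1 := hS.closed.mul (hS.closed.mul h (blk_diag_mem hS (x := s⁻¹) (a := 1) (d := s) (by field_simp))) h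
  rw [hm, blk_mul, blk_mul] at h1
  have := hm_of_blk hS (by convert hsp using 1; ring) (by convert hsm using 1; ring) (by convert hsm using 1; ring) h1
  convert this using 3 <;> ring

include hS in
/-- The exceptional block over five elements. -/
theorem exists_axis_five (h5 : (5 : F) = 0) (h : hm (-1 : F) ∈ S) :
    ∃ W ∈ S, W 0 2 = 0 ∧ W 2 2 = 0 ∧ W 1 2 ≠ 0 ∧ W 1 0 ≠ 0 := by
  have h1 : (1 : F) ≠ 0 := one_ne_zero
  have h2 : (2 : F) ≠ 0 := fun e => h1 (by linear_combination h5 - 2 * e)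
  have hH : blk (2 : F) 1 1 1 4 ∈ S := by
    convert h using 1
    rw [hm, show ((-1 : F) - 1)⁻¹ = 2 from inv_eq_of_mul_eq_one_right (by linear_combination -h5)]
    congr 1
    linear_combination h5
  set P : Matrix (Fin 3) (Fin 3) F := !![0, 1, 0; 1, 0, 0; 0, 0, -1]
  have hP : P ∈ S := by
    have e : P = mon (Equiv.swap (0 : Fin 3) 1) ![1, 1, -1] := by
      ext i j
      fin_cases i <;> fin_cases j <;> simp [P, mon_apply, Equiv.swap_apply_def]
    rw [e]
    exact hS.mon_mem _ _ (by rw [← e]; simp [P, Matrix.det_fin_three])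
  have hD : blk (1 : F) 2 0 0 3 ∈ S := blk_diag_mem hS (by linear_combination h5)
  have hH1 : P * blk (2 : F) 1 1 1 4 * P ∈ S := hS.closed.mul (hS.closed.mul hP hH) hP
  refine ⟨_, hS.closed.mul (hS.closed.mul (hS.closed.mul (hS.closed.mul hH hH1) hH) hD) hH1, ?_, ?_, ?_, ?_⟩
  all_goals simp only [P, blk, Matrix.mul_apply, Fin.sum_univ_three, Matrix.of_apply, Matrix.cons_val',
    Matrix.cons_val_zero, Matrix.cons_val_one, Matrix.cons_val, Matrix.empty_val', Matrix.cons_val_fin_one]
  · linear_combination -20 * h5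
  · linear_combination 160 * h5
  · intro e; exact h2 (by linear_combination 44 * h5 - e)
  · intro e; exact h1 (by linear_combination -11 * h5 - e)

variable [Fintype F] (h5 : 5 ≤ Fintype.card F)

include hS h5 in
/-- An element fixing the first axis and moving its coordinate functional. -/
theorem hasTv_of_axis_row {y : Matrix (Fin 3) (Fin 3) F} (hy : y ∈ S) (h10 : y 1 0 = 0) (h20 : y 2 0 = 0)
    (hrow : y 0 1 ≠ 0 ∨ y 0 2 ≠ 0) : HasTv S := by
  have hax : AxisCol 0 y := fun i hi => by fin_cases i <;> simp_all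
  obtain ⟨z, hz, hyz, hzy⟩ := hS.closed.inv hy
  have hy00 : y 0 0 ≠ 0 := fun e => by
    obtain ⟨p, hp⟩ := exists_ne_zero_col hzy 0
    fin_cases p <;> simp_all
  obtain ⟨μ, hμ0, hμ3⟩ : ∃ μ : F, μ ≠ 0 ∧ μ * μ * μ ≠ 1 := by
    classical
    by_contra hall
    push Not at hall
    obtain ⟨x, hx0, hx1, -, -⟩ := exists_avoid h5 1 1 1
    obtain ⟨u, hu0, hu1, hux, -⟩ := exists_avoid h5 1 x x
    obtain ⟨w, hw0, hw1, hwx, hwu⟩ := exists_avoid h5 1 x u
    have h1 : x * x + x + 1 = 0 :=
      (mul_eq_zero.1 (show (x - 1) * (x * x + x + 1) = 0 by linear_combination hall x hx0)).resolve_left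
        (sub_ne_zero.2 hx1)
    have h2 : u * u + u + 1 = 0 :=
      (mul_eq_zero.1 (show (u - 1) * (u * u + u + 1) = 0 by linear_combination hall u hu0)).resolve_left
        (sub_ne_zero.2 hu1)
    have h3 : w * w + w + 1 = 0 :=
      (mul_eq_zero.1 (show (w - 1) * (w * w + w + 1) = 0 by linear_combination hall w hw0)).resolve_left
        (sub_ne_zero.2 hw1)
    have e1 : u + x + 1 = 0 :=
      (mul_eq_zero.1 (show (u - x) * (u + x + 1) = 0 by linear_combination h2 - h1)).resolve_left (sub_ne_zero.2 hux)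
    have e2 : w + x + 1 = 0 :=
      (mul_eq_zero.1 (show (w - x) * (w + x + 1) = 0 by linear_combination h3 - h1)).resolve_left (sub_ne_zero.2 hwx)
    exact hwu (by linear_combination e2 - e1)
  set d : Fin 3 → F := ![(μ * μ)⁻¹, μ, μ] with hd
  set d' : Fin 3 → F := ![μ * μ, μ⁻¹, μ⁻¹] with hd'
  have hdd : diagonal d * diagonal d' = (1 : Matrix (Fin 3) (Fin 3) F) := by
    rw [diagonal_mul_diagonal, ← diagonal_one]
    congr 1
    funext q
    fin_cases q <;> simp [hd, hd'] <;> field_simp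
  have hD : diagonal d ∈ S := mon_diag d ▸ hS.diag_mem (by rw [Fin.prod_univ_three]; simp [hd]; field_simp)
  set Y := diagonal d * y * diagonal d' with hYdef
  have hY : Y ∈ S := hS.closed.conj hD hdd hy
  have haxY : AxisCol 0 Y := fun i hi => by
    rw [hYdef, mul_diagonal, diagonal_mul, hax i hi, mul_zero, zero_mul]
  have hproj : proj 0 Y = proj 0 y := by
    ext i j
    by_cases hi : i = 0
    · subst hi; simp [proj_apply]
    by_cases hj : j = 0
    · subst hj; simp [proj_apply]
    rw [proj_apply, proj_apply, if_neg (by simp [hi, hj]), if_neg (by simp [hi, hj]), hYdef, mul_diagonal, diagonal_mul]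
    fin_cases i <;> fin_cases j <;> first | exact absurd rfl hi | exact absurd rfl hj | (simp [hd, hd']; field_simp)
  obtain ⟨τ, hτ0, hτ⟩ := eq_tv_of_proj (haxY.mul (hax.inverse hzy))
    (by rw [proj_mul haxY, hproj, ← proj_mul hax, hyz, proj_one]) (hS.det_eq (hS.closed.mul hY hz))
  refine hasTv_of_row hS h5 hτ0 (fun e => ?_) (hτ ▸ hS.closed.mul hY hz)
  have hone : Y * z = 1 := by rw [hτ, e]; ext i j; simp [DecompMax.tv_apply]
  have hYy : Y = y := by rw [← mul_one Y, ← hzy, ← mul_assoc, hone, one_mul]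
  have key : ∀ j : Fin 3, j ≠ 0 → y 0 j = 0 := fun j hj => by
    have := congrFun (congrFun hYy 0) j
    rw [hYdef, mul_diagonal, diagonal_mul] at this
    have hd'' : d 0 * d' j = (μ * μ * μ)⁻¹ := by
      fin_cases j <;> first | exact absurd rfl hj | (simp [hd, hd']; field_simp)
    rw [mul_right_comm, hd''] at this
    have h' : ((μ * μ * μ)⁻¹ - 1) * y 0 j = 0 := by linear_combination this
    exact (mul_eq_zero.1 h').resolve_left (sub_ne_zero.2 (inv_eq_one.not.2 hμ3))
  rcases hrow with hr | hr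
  · exact hr (key 1 (by decide))
  · exact hr (key 2 (by decide))

include hS h5 in
/-- A non-monomial element fixing the first axis. -/
theorem hasTv_of_axis_zero {y : Matrix (Fin 3) (Fin 3) F} (hy : y ∈ S) (h10 : y 1 0 = 0) (h20 : y 2 0 = 0)
    (hmon : ¬ IsMon y) : HasTv S := by
  by_cases hrow : y 0 1 ≠ 0 ∨ y 0 2 ≠ 0
  · exact hasTv_of_axis_row hS h5 hy h10 h20 hrow
  push Not at hrow
  set a := y 1 1 with ha
  set b := y 1 2 with hb
  set c := y 2 1 with hc
  set d := y 2 2 with hd
  have e : y = blk (y 0 0) a b c d := by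
    ext i j
    fin_cases i <;> fin_cases j <;> simp [blk, ha, hb, hc, hd, h10, h20, hrow.1, hrow.2]
  rw [e] at hy
  have hdet := hS.det_eq hy
  rw [det_blk] at hdet
  by_cases hz : a = 0 ∨ b = 0 ∨ c = 0 ∨ d = 0
  · refine hasTv_of_blk_zero hS hy hz ⟨fun h => hmon ?_, fun h => hmon ?_⟩ <;> rw [e, h.1, h.2] <;>
      intro p p' q hp hp' <;> fin_cases p <;> fin_cases p' <;> fin_cases q <;> simp [blk] at hp hp' ⊢
  push Not at hz
  obtain ⟨ha0, hb0, hc0, hd0⟩ := hz
  have hH := hm_of_blk hS ha0 hb0 hc0 hy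
  set v := a * d / (b * c)
  by_cases hv : v * v = 1
  swap
  · exact hasTv_of_hm hS hv hH
  have hv1 : v ≠ 1 := fun e1 => by
    rw [div_eq_one_iff_eq (mul_ne_zero hb0 hc0)] at e1
    rw [e1, sub_self, mul_zero] at hdet
    exact zero_ne_one hdet
  have hvm : v = -1 := (mul_self_eq_one_iff.1 hv).resolve_left hv1
  rw [hvm] at hH
  have h2 : (2 : F) ≠ 0 := fun e2 => hv1 (by rw [hvm]; linear_combination -e2)
  by_cases h7 : 6 ≤ Fintype.card F
  · classical
    obtain ⟨w, hw⟩ : ∃ w : F, w * (w ^ 4 - 1) ≠ 0 := by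
      by_contra hall
      push Not at hall
      open Polynomial in
      have hp : (X * (X ^ 4 - 1) : F[X]) ≠ 0 := by
        intro h0
        have := congrArg (fun P : F[X] => P.coeff 5) h0
        simp [mul_sub, ← pow_succ', coeff_X_pow, coeff_X] at this
      have hsub : (Finset.univ : Finset F) ⊆ (Polynomial.X * (Polynomial.X ^ 4 - 1) : Polynomial F).roots.toFinset :=
        fun x _ => by
          rw [Multiset.mem_toFinset, Polynomial.mem_roots hp]
          simp [hall x]
      have h1 := (Finset.card_le_card hsub).trans ((Multiset.toFinset_card_le _).trans (Polynomial.card_roots' _))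
      have h2 : (Polynomial.X * (Polynomial.X ^ 4 - 1) : Polynomial F).natDegree ≤ 5 := by compute_degree
      rw [Finset.card_univ] at h1
      omega
    have hw0 := left_ne_zero_of_mul hw
    have hw4 : w ^ 4 ≠ 1 := sub_ne_zero.1 (right_ne_zero_of_mul hw)
    have hwp : w + 1 ≠ 0 := fun e2 => hw4 (by rw [eq_neg_of_add_eq_zero_left e2]; ring)
    have hwm : w - 1 ≠ 0 := fun e2 => hw4 (by rw [sub_eq_zero.1 e2]; ring)
    have hsp : 1 + (w - 1) / (w + 1) = 2 * w / (w + 1) := by field_simp; ring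
    have hsm : 1 - (w - 1) / (w + 1) = 2 / (w + 1) := by field_simp; ring
    refine hasTv_of_hm hS ?_ (hm_neg_one_square hS (s := (w - 1) / (w + 1)) (div_ne_zero hwm hwp)
      (hsp ▸ div_ne_zero (mul_ne_zero h2 hw0) hwp) (hsm ▸ div_ne_zero h2 hwp) hH)
    rw [hsp, hsm]
    intro e2
    apply hw4
    field_simp at e2
    linear_combination e2
  · have h5' : (5 : F) = 0 := by
      have := FiniteField.cast_card_eq_zero F
      rwa [show Fintype.card F = 5 by omega, Nat.cast_ofNat] at this
    obtain ⟨W, hW, hW02, hW22, hW12, hW10⟩ := exists_axis_five hS h5' hH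
    refine hasTv_of_axis_row hS h5 (shift_mem hS (Equiv.swap 0 1) (Equiv.swap 0 2) hW) ?_ ?_ (Or.inr ?_)
    · by_contra hne
      have := (shift_ne_zero (Equiv.swap 0 1) (Equiv.swap 0 2) W 0 0).1 (by simpa using hne)
      exact this (by simpa using hW02)
    · by_contra hne
      have := (shift_ne_zero (Equiv.swap 0 1) (Equiv.swap 0 2) W 2 0).1
        (by rwa [Equiv.swap_apply_of_ne_of_ne (by decide) (by decide)])
      exact this (by simpa using hW22)
    · have := (shift_ne_zero (Equiv.swap 0 1) (Equiv.swap 0 2) W 1 2).2 (by simpa using hW10)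
      simpa using this

end CfsgLib.Classical.GeoThree
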