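import Cfsg.Agent.Lib.Classical.GeoThree.Lines

/-!
# Stabilisers of three independent lines are maximal in `SL_3`
-/

set_option autoImplicit false
set_option linter.unusedSectionVars false
set_option linter.unusedSimpArgs false

open Cfsg

namespace CfsgLib.Classical.GeoThree

open Matrix DecompMax

variable {F : Type*} [Field F] [Fintype F] {S : Set (Matrix (Fin 3) (Fin 3) F)} (hS : MonOver S)
  (h5 : 5 ≤ Fintype.card F)

include h5 in
/-- A scalar whose cube is not one, and not minus one in characteristic three. -/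
theorem exists_cube : ∃ μ : F, μ ≠ 0 ∧ μ ^ 3 ≠ 1 ∧ ((3 : F) = 0 → μ ^ 3 ≠ -1) := by
  classical
  by_cases h3 : (3 : F) = 0
  · obtain ⟨μ, hμ0, hμ1, hμn, -⟩ := exists_avoid h5 1 (-1) 1
    refine ⟨μ, hμ0, fun e => hμ1 ?_, fun _ e => hμn ?_⟩
    · have : (μ - 1) ^ 3 = 0 := by linear_combination e - (μ * μ - μ) * h3
      exact sub_eq_zero.1 ((pow_eq_zero_iff (by norm_num)).1 this)
    · have : (μ + 1) ^ 3 = 0 := by linear_combination e + (μ * μ + μ) * h3
      exact eq_neg_of_add_eq_zero_left ((pow_eq_zero_iff (by norm_num)).1 this)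
  · by_contra hall
    push Not at hall
    have hsub : (Finset.univ : Finset F) ⊆ insert 0 (Polynomial.X ^ 3 - Polynomial.C 1 : Polynomial F).roots.toFinset :=
      fun x _ => by
        by_cases hx : x = 0
        · simp [hx]
        refine Finset.mem_insert_of_mem ?_
        rw [Multiset.mem_toFinset, Polynomial.mem_roots (Polynomial.X_pow_sub_C_ne_zero (by norm_num) 1)]
        have : x ^ 3 = 1 := by
          by_contra h
          exact h3 (hall x hx h).1
        simp [this]
    have h1 := (Finset.card_le_card hsub).trans (Finset.card_insert_le _ _)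
    have h2 : ((Polynomial.X ^ 3 - Polynomial.C 1 : Polynomial F).roots.toFinset).card ≤ 3 :=
      (Multiset.toFinset_card_le _).trans ((Polynomial.card_roots' _).trans (Polynomial.natDegree_X_pow_sub_C (r := (1 : F))).le)
    rw [Finset.card_univ] at h1
    omega

include hS h5 in
/-- An element with a zero entry in the first place: the inverse has one too, and the products are balanced. -/
theorem pairing (hW : ¬ HasTv S) {h B : Matrix (Fin 3) (Fin 3) F} (hh : h ∈ S) (hhB : h * B = 1) (hBh : B * h = 1)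
    (hmon : ¬ IsMon h) (h00 : h 0 0 = 0) :
    B 0 0 = 0 ∧ h 0 1 * B 1 0 = h 0 2 * B 2 0 ∧ h 0 1 * B 1 0 + h 0 2 * B 2 0 = 1 ∧ (2 : F) ≠ 0 ∧ (3 : F) ≠ 0 := by
  classical
  obtain ⟨μ, hμ0, hμ1, hμn⟩ := exists_cube h5
  set d : Fin 3 → F := ![(μ * μ)⁻¹, μ, μ] with hd
  have hB : B ∈ S := hS.closed.inv_mem hh hhB
  have hD : diagonal d ∈ S := mon_diag d ▸ hS.diag_mem (by rw [Fin.prod_univ_three]; simp [hd]; field_simp)
  set θ := (μ ^ 3)⁻¹ - 1 with hθ
  set m := B * diagonal d * h with hmdef
  have hm : m ∈ S := hS.closed.mul (hS.closed.mul hB hD) hh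
  have hentry : ∀ i j, m i j = μ * ((1 : Matrix (Fin 3) (Fin 3) F) i j + θ * (B i 0 * h 0 j)) := by
    intro i j
    rw [← hBh, hmdef]
    simp only [mul_apply, diagonal, of_apply, Fin.sum_univ_three, hd, hθ]
    simp
    field_simp
    ring
  have hθ0 : θ ≠ 0 := sub_ne_zero.2 (inv_eq_one.not.2 hμ1)
  have hm00 : m 0 0 = μ := by rw [hentry, h00]; simp
  have hm10 : m 1 0 = 0 := by rw [hentry, h00]; simp
  have hm20 : m 2 0 = 0 := by rw [hentry, h00]; simp
  have hmm : IsMon m := by_contra fun hc => hW (hasTv_of_axis_zero hS h5 hm hm10 hm20 hc)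
  obtain ⟨z, -, hmz, hzm⟩ := hS.closed.inv hm
  obtain ⟨σ, e, he, hme⟩ := hmm.exists_eq hmz hzm
  have hσ0 : σ 0 = 0 := by
    by_contra hne
    rw [hme, mon_apply, if_neg (Ne.symm hne)] at hm00
    exact hμ0 hm00.symm
  have hoff : ∀ i j, i ≠ σ j → (1 : Matrix (Fin 3) (Fin 3) F) i j + θ * (B i 0 * h 0 j) = 0 := by
    intro i j hij
    have := hentry i j
    rw [hme, mon_apply, if_neg hij] at this
    exact (mul_eq_zero.1 this.symm).resolve_left hμ0
  have hsum : B 0 0 * h 0 0 + B 1 0 * h 0 1 + B 2 0 * h 0 2 = 1 := by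
    have := congrFun (congrFun hhB 0) 0
    simp only [mul_apply, Fin.sum_univ_three, Matrix.one_apply_eq] at this
    linear_combination this
  rw [h00, mul_zero, zero_add] at hsum
  have h12 : σ 1 = 1 ∨ σ 1 = 2 := by
    have : σ 1 ≠ 0 := fun e1 => by
      have := σ.injective (e1.trans hσ0.symm)
      exact absurd this (by decide)
    revert this; generalize σ 1 = x; revert x; decide
  rcases h12 with hσ1 | hσ1
  · -- a diagonal conjugate: the first row has a single entry
    exfalso
    have hσ2 : σ 2 = 2 := by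
      have ha : σ 2 ≠ 0 := fun e1 => absurd (σ.injective (e1.trans hσ0.symm)) (by decide)
      have hb : σ 2 ≠ 1 := fun e1 => absurd (σ.injective (e1.trans hσ1.symm)) (by decide)
      revert ha hb; generalize σ 2 = x; revert x; decide
    have z21 := hoff 2 1 (by rw [hσ1]; decide)
    have z12 := hoff 1 2 (by rw [hσ2]; decide)
    simp [Matrix.one_apply, hθ0] at z21 z12
    obtain ⟨w, -, -, hwh⟩ := hS.closed.inv hh
    have hrow : (h 0 1 = 0) ∨ (h 0 2 = 0) := by
      by_contra hc
      push Not at hc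
      rw [z21.resolve_right hc.1, z12.resolve_right hc.2] at hsum
      simp at hsum
    have hmonT : ¬ IsMon hᵀ := fun hc => hmon fun p p' q hp hp' => by
      obtain ⟨τ, f, hf, hτ⟩ := hc.exists_eq (B := Bᵀ) (by rw [← transpose_mul, hBh, transpose_one])
        (by rw [← transpose_mul, hhB, transpose_one])
      have eh : h = mon τ.symm (fun p => f (τ.symm p)) := by
        rw [← transpose_transpose h, hτ, mon_transpose]
      rw [eh] at hp hp'
      exact isMon_mon _ _ p p' q hp hp'
    have hTmem : hᵀ ∈ {A | Aᵀ ∈ S} := by simpa using hh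
    refine hW (hasTv_of_transpose ?_)
    rcases hrow with h01 | h02
    · -- column `0` of the transpose is supported at `2`
      refine hasTv_of_axis_zero hS.transpose h5 (shift_mem hS.transpose (Equiv.swap 2 0) 1 hTmem) ?_ ?_
        (shift_not_isMon hmonT)
      · by_contra hne
        have := (shift_ne_zero (Equiv.swap (2 : Fin 3) 0) 1 hᵀ 1 0).1
          (by rwa [Equiv.swap_apply_of_ne_of_ne (by decide) (by decide)])
        exact this (by simpa using h01)
      · by_contra hne
        have := (shift_ne_zero (Equiv.swap (2 : Fin 3) 0) 1 hᵀ 0 0).1 (by rwa [Equiv.swap_apply_right])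
        exact this (by simpa using h00)
    · refine hasTv_of_axis_zero hS.transpose h5 (shift_mem hS.transpose (Equiv.swap 1 0) 1 hTmem) ?_ ?_
        (shift_not_isMon hmonT)
      · by_contra hne
        have := (shift_ne_zero (Equiv.swap (1 : Fin 3) 0) 1 hᵀ 0 0).1 (by rwa [Equiv.swap_apply_right])
        exact this (by simpa using h00)
      · by_contra hne
        have := (shift_ne_zero (Equiv.swap (1 : Fin 3) 0) 1 hᵀ 2 0).1
          (by rwa [Equiv.swap_apply_of_ne_of_ne (by decide) (by decide)])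
        exact this (by simpa using h02)
  · have hσ2 : σ 2 = 1 := by
      have ha : σ 2 ≠ 0 := fun e1 => absurd (σ.injective (e1.trans hσ0.symm)) (by decide)
      have hb : σ 2 ≠ 2 := fun e1 => absurd (σ.injective (e1.trans hσ1.symm)) (by decide)
      revert ha hb; generalize σ 2 = x; revert x; decide
    have z11 := hoff 1 1 (by rw [hσ1]; decide)
    have z22 := hoff 2 2 (by rw [hσ2]; decide)
    have z01 := hoff 0 1 (by rw [hσ1]; decide)
    have z02 := hoff 0 2 (by rw [hσ2]; decide)
    simp [Matrix.one_apply, hθ0] at z11 z22 z01 z02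
    have hθ2 : θ = -2 := by linear_combination z11 + z22 - θ * hsum
    have h2 : (2 : F) ≠ 0 := fun e2 => hθ0 (by rw [hθ2]; linear_combination -e2)
    refine ⟨?_, mul_left_cancel₀ hθ0 (by linear_combination z11 - z22), by linear_combination hsum, h2,
      fun e3 => hμn e3 ?_⟩
    · rcases z01 with e1 | e1
      · exact e1
      · exact z02.resolve_right fun e2 => by rw [e1, e2] at hsum; simp at hsum
    · have e1 : (μ ^ 3)⁻¹ = -1 := by rw [hθ] at hθ2; linear_combination hθ2
      rw [← inv_inv (μ ^ 3), e1]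
      norm_num

theorem right_inv_unique {A X Y : Matrix (Fin 3) (Fin 3) F} (h1 : A * X = 1) (h2 : A * Y = 1) : X = Y := by
  have h1' := mul_eq_one_comm.1 h1
  calc X = X * (A * Y) := by rw [h2, mul_one]
    _ = Y := by rw [← mul_assoc, h1', one_mul]

include hS h5 in
/-- A non-monomial element has no zero entries. -/
theorem entry_ne_zero (hW : ¬ HasTv S) {g : Matrix (Fin 3) (Fin 3) F} (hg : g ∈ S) (hmon : ¬ IsMon g) (a j : Fin 3) :
    g a j ≠ 0 := by
  classical
  intro haj
  -- the zero can be moved to the first place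
  have move : ∀ {y : Matrix (Fin 3) (Fin 3) F}, y ∈ S → ¬ IsMon y → ∀ {a j : Fin 3}, y a j = 0 →
      ∃ h B : Matrix (Fin 3) (Fin 3) F, h ∈ S ∧ h * B = 1 ∧ B * h = 1 ∧ ¬ IsMon h ∧ h 0 0 = 0 ∧
        ∀ z, y * z = 1 → (B 0 0 = 0 ↔ z j a = 0) := by
    intro y hy hym a j hz
    set σ := Equiv.swap a 0
    set τ := Equiv.swap 0 j
    obtain ⟨B, -, h1, h2⟩ := hS.closed.inv (shift_mem hS σ τ hy)
    refine ⟨_, B, shift_mem hS σ τ hy, h1, h2, shift_not_isMon hym, ?_, fun z hyz => ?_⟩
    · by_contra hne
      have := (shift_ne_zero σ τ y a 0).1 (by simpa [σ] using hne)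
      exact this (by simpa [τ] using hz)
    · have hB : B = (mon τ.symm (fun p => (sg (F := F) τ (τ.symm p))⁻¹) * z) *
          mon σ.symm (fun p => (sg (F := F) σ (σ.symm p))⁻¹) := by
        refine (right_inv_unique ?_ h1).symm
        show mon σ (sg σ) * y * mon τ (sg τ) * _ = 1
        simp only [mul_assoc]
        rw [← mul_assoc (mon τ (sg τ)), mon_mul_inv τ (sg_ne_zero τ), one_mul, ← mul_assoc y, hyz, one_mul,
          mon_mul_inv σ (sg_ne_zero σ)]
      have e : B 0 0 = (sg (F := F) τ (τ.symm j))⁻¹ * z j a * (sg (F := F) σ (σ.symm 0))⁻¹ := by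
        rw [hB, mul_mon_apply]
        have e1 : τ.symm j = 0 := by simp [τ]
        have e2 : σ.symm 0 = a := by simp [σ]
        rw [e2]
        conv_lhs => rw [← e1]
        rw [mon_mul_apply]
      rw [e]
      simp [sg_ne_zero]
  obtain ⟨h, B, hh, hhB, hBh, hhm, h00, -⟩ := move hg hmon haj
  obtain ⟨hB00, hp1, hp2, h2, h3⟩ := pairing hS h5 hW hh hhB hBh hhm h00
  obtain ⟨-, hq1, hq2, -, -⟩ := pairing hS h5 hW (hS.closed.inv_mem hh hhB) hBh hhB
    (fun hc => hhm (hc.of_inverse hBh hhB)) hB00
  have h20ne : h 0 2 * B 2 0 ≠ 0 := fun e => by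
    rw [hp1, e, add_zero] at hp2
    exact zero_ne_one hp2
  have k20ne : B 0 2 * h 2 0 ≠ 0 := fun e => by
    rw [hq1, e, add_zero] at hq2
    exact zero_ne_one hq2
  have k10ne : B 0 1 * h 1 0 ≠ 0 := hq1 ▸ k20ne
  have row : ∀ p q, h p 0 * B 0 q + h p 1 * B 1 q + h p 2 * B 2 q = (1 : Matrix (Fin 3) (Fin 3) F) p q := by
    intro p q
    rw [← hhB, mul_apply, Fin.sum_univ_three]
  have r02 := row 0 2
  have r01 := row 0 1
  have r10 := row 1 0
  have r20 := row 2 0
  have r12 := row 1 2
  have r21 := row 2 1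
  simp [Matrix.one_apply, h00, hB00] at r02 r01 r10 r20 r12 r21
  have hG : h 1 1 * B 1 2 = h 1 2 * B 2 2 :=
    mul_left_cancel₀ h20ne (by
      linear_combination h 0 1 * B 1 2 * r10 - h 1 2 * B 2 0 * r02 - h 1 1 * B 1 2 * hp1)
  have hG' : h 2 1 * B 1 1 = h 2 2 * B 2 1 :=
    mul_left_cancel₀ h20ne (by
      linear_combination h 0 1 * B 1 1 * r20 - h 2 2 * B 2 0 * r01 - h 2 1 * B 1 1 * hp1)
  set t : Fin 3 → F := ![-(2 : F)⁻¹, 1, -2] with ht
  set t' : Fin 3 → F := ![-2, 1, -(2 : F)⁻¹] with ht'
  have hD : diagonal t ∈ S := mon_diag t ▸ hS.diag_mem (by rw [Fin.prod_univ_three]; simp [ht, h2])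
  set y := h * diagonal t * B with hy
  have hymem : y ∈ S := hS.closed.mul (hS.closed.mul hh hD) (hS.closed.inv_mem hh hhB)
  have entry : ∀ (s : Fin 3 → F) p q, (h * diagonal s * B) p q =
      h p 0 * s 0 * B 0 q + h p 1 * s 1 * B 1 q + h p 2 * s 2 * B 2 q := by
    intro s p q
    rw [mul_apply, Fin.sum_univ_three, mul_diagonal, mul_diagonal, mul_diagonal]
  have hy00 : y 0 0 ≠ 0 := fun e => h20ne (by
    rw [hy, entry, h00, hB00] at e
    simp [ht] at e
    linear_combination -e + hp1)
  have h11 : h 1 1 ≠ 0 := fun e => by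
    rw [e, zero_mul] at hG
    rw [← hG, e, zero_mul, add_zero, add_zero] at r12
    rcases mul_eq_zero.1 r12 with e1 | e1
    · exact k10ne (by rw [e1, mul_zero])
    · exact k20ne (by rw [e1, zero_mul])
  have hy10 : y 1 0 ≠ 0 := fun e => by
    rw [hy, entry, hB00] at e
    simp [ht] at e
    have e2 : 3 * (h 1 1 * B 1 0) = 0 := by linear_combination e + 2 * r10
    rcases mul_eq_zero.1 ((mul_eq_zero.1 e2).resolve_left h3) with e3 | e3
    · exact h11 e3
    · rw [e3, mul_zero] at hp1
      exact h20ne hp1.symm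
  have hym : ¬ IsMon y := fun hc => absurd (hc 0 1 0 hy00 hy10) (by decide)
  have hy12 : y 1 2 = 0 := by
    rw [hy, entry]
    simp [ht]
    field_simp
    linear_combination -r12 + 3 * hG
  obtain ⟨h', B', hh', hhB', hBh', hhm', h00', hiff⟩ := move hymem hym hy12
  have hinv : y * (h * diagonal t' * B) = 1 := by
    have e1 : diagonal t * diagonal t' = (1 : Matrix (Fin 3) (Fin 3) F) := by
      rw [diagonal_mul_diagonal, ← diagonal_one]
      congr 1
      funext q
      fin_cases q <;> simp [ht, ht', h2]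
    calc y * (h * diagonal t' * B) = h * (diagonal t * (B * h) * diagonal t') * B := by
          simp only [hy, mul_assoc]
      _ = 1 := by rw [hBh, mul_one, e1, mul_one, hhB]
  have hz := (hiff _ hinv).1 (pairing hS h5 hW hh' hhB' hBh' hhm' h00').1
  rw [entry] at hz
  simp [ht'] at hz
  have e9 : (3 * 3) * (h 2 1 * B 1 1) = 0 := by
    field_simp at hz
    linear_combination hz + 4 * r21 + 3 * hG'
  have e0 : h 2 1 * B 1 1 = 0 := (mul_eq_zero.1 e9).resolve_left (mul_ne_zero h3 h3)
  have e1 : h 2 0 * B 0 1 = 0 := by linear_combination r21 + hG' - 2 * e0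
  rcases mul_eq_zero.1 e1 with e2 | e2
  · exact k20ne (by rw [e2, mul_zero])
  · exact k10ne (by rw [e2, zero_mul])

include hS h5 in
/-- For a non-monomial element the products `g i q * g⁻¹ q j` have equal cubes. -/
theorem cubes_eq (hW : ¬ HasTv S) {g B : Matrix (Fin 3) (Fin 3) F} (hg : g ∈ S) (hgB : g * B = 1) (hBg : B * g = 1)
    (hmon : ¬ IsMon g) {i j : Fin 3} (hij : i ≠ j) (a b : Fin 3) :
    (g i a * B a j) ^ 3 = (g i b * B b j) ^ 3 := by
  classical
  have hB : B ∈ S := hS.closed.inv_mem hg hgB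
  have hgne := entry_ne_zero hS h5 hW hg hmon
  have hBne := entry_ne_zero hS h5 hW hB fun h => hmon (h.of_inverse hBg hgB)
  set G : Fin 3 → F := fun q => g i q * B q j
  show G a ^ 3 = G b ^ 3
  have hG : ∀ q, G q ≠ 0 := fun q => mul_ne_zero (hgne i q) (hBne q j)
  have hsum : G 0 + G 1 + G 2 = 0 := by
    have := congrFun (congrFun hgB i) j
    rwa [mul_apply, Fin.sum_univ_three, Matrix.one_apply_ne hij] at this
  have key : ∀ m : Fin 3, ∃ k, k ≠ i ∧ ∃ s : F, ∀ q, G (q + m) = s * (g i q * B q k) := by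
    intro m
    set t : Fin 3 → F := fun q => G (q + m) / G q with ht
    have hprod : ∏ q, t q = 1 := by
      rw [ht, Finset.prod_div_distrib, show ∏ q, G (q + m) = ∏ q, G q from Equiv.prod_comp (Equiv.addRight m) G,
        div_self (Finset.prod_ne_zero_iff.2 fun q _ => hG q)]
    have hy : g * diagonal t * B ∈ S := hS.closed.mul (hS.closed.mul hg (mon_diag t ▸ hS.diag_mem hprod)) hB
    have e : ∀ q, (g * diagonal t) i q * B q j = G (q + m) := fun q => by
      rw [mul_diagonal, ht]
      have := hgne i q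
      have := hBne q j
      simp only [G]
      field_simp
    have hzero : (g * diagonal t * B) i j = 0 := by
      rw [mul_apply, Finset.sum_congr rfl fun q _ => e q,
        show ∑ q, G (q + m) = ∑ q, G q from Equiv.sum_comp (Equiv.addRight m) G, Fin.sum_univ_three, hsum]
    have hym : IsMon (g * diagonal t * B) := by_contra fun hc => entry_ne_zero hS h5 hW hy hc i j hzero
    obtain ⟨z, -, hz1, hz2⟩ := hS.closed.inv hy
    obtain ⟨k, hk⟩ := exists_ne_zero_col hz2 j
    refine ⟨k, fun e' => hk (e' ▸ hzero), (g * diagonal t * B) k j, fun q => ?_⟩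
    have e2 : (diagonal t * B) q j = B q k * (g * diagonal t * B) k j := by
      have e1 : diagonal t * B = B * (g * diagonal t * B) := by rw [← mul_assoc, ← mul_assoc, hBg, one_mul]
      rw [e1, mul_apply, Finset.sum_eq_single k (fun b _ hb => by
        rw [show (g * diagonal t * B) b j = 0 from by_contra fun h => hb (hym b k j h hk), mul_zero]) (by simp)]
    rw [← e q, mul_diagonal, mul_assoc, ← diagonal_mul t B, e2]
    ring
  choose k hk s heq using key
  obtain ⟨m, -, m', -, hne, hkk⟩ := Finset.exists_ne_map_eq_of_card_lt_of_maps_to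
    (t := Finset.univ.erase i) (by rw [Finset.card_erase_of_mem (Finset.mem_univ _), Finset.card_univ]; simp)
    (f := k) (s := (Finset.univ : Finset (Fin 3))) fun p _ => Finset.mem_erase.2 ⟨hk p, Finset.mem_univ _⟩
  have hs' : s m' ≠ 0 := fun e => by
    have := heq m' 0
    rw [e, zero_mul] at this
    exact hG _ this
  set κ := s m / s m'
  have hshift : ∀ q, G (q + m) = κ * G (q + m') := fun q => by
    rw [heq m q, heq m' q, hkk]
    simp only [κ]
    field_simp
  have hd : ∀ q, G (q + (m - m')) = κ * G q := fun q => by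
    have := hshift (q - m')
    rwa [sub_add_cancel, sub_add_eq_add_sub, add_sub_assoc] at this
  have hd0 : m - m' ≠ 0 := sub_ne_zero.2 hne
  have hthree : ∀ d : Fin 3, d + d + d = 0 := by decide
  have hκ : κ ^ 3 = 1 := by
    have e1 := hd 0
    have e2 := hd (m - m')
    have e3 := hd ((m - m') + (m - m'))
    rw [hthree] at e3
    rw [zero_add] at e1
    rw [e2, e1] at e3
    exact mul_left_cancel₀ (hG 0) (by linear_combination -e3)
  have hcube : ∀ q, G (q + (m - m')) ^ 3 = G q ^ 3 := fun q => by rw [hd, mul_pow, hκ, one_mul]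
  have hreach : ∀ d : Fin 3, d ≠ 0 → ∀ x y : Fin 3, y = x ∨ y = x + d ∨ y = x + d + d := by decide
  rcases hreach (m - m') hd0 a b with rfl | rfl | rfl
  · rfl
  · exact (hcube a).symm
  · rw [hcube, hcube]

include hS h5 in
/-- The main result on three lines. -/
theorem hasTv_of_not_isMon {g : Matrix (Fin 3) (Fin 3) F} (hg : g ∈ S) (hmon : ¬ IsMon g) : HasTv S := by
  classical
  by_contra hW
  obtain ⟨B, hB, hgB, hBg⟩ := hS.closed.inv hg
  have hgne := entry_ne_zero hS h5 hW hg hmon
  have hBne := entry_ne_zero hS h5 hW hB fun h => hmon (h.of_inverse hBg hgB)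
  set a : Fin 3 → F := fun i => g i 0 * B 0 i with ha
  have ha0 : ∀ i, a i ≠ 0 := fun i => mul_ne_zero (hgne i 0) (hBne 0 i)
  have hasum : a 0 + a 1 + a 2 = 1 := by
    have := congrFun (congrFun hBg 0) 0
    rw [mul_apply, Fin.sum_univ_three, Matrix.one_apply_eq] at this
    linear_combination this
  -- the quadratic equation
  have quad : ∀ μ : F, μ ≠ 0 → μ ^ 3 ≠ 1 → ∀ i,
      1 + 3 * (((μ ^ 3)⁻¹ - 1) * a i) + 3 * (((μ ^ 3)⁻¹ - 1) * a i) ^ 2 = 0 := by
    intro μ hμ0 hμ1
    set θ := (μ ^ 3)⁻¹ - 1 with hθ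
    set θ' := μ ^ 3 - 1 with hθ'
    have hθ0 : θ ≠ 0 := sub_ne_zero.2 (inv_eq_one.not.2 hμ1)
    have hθ0' : θ' ≠ 0 := sub_ne_zero.2 hμ1
    set d : Fin 3 → F := ![(μ * μ)⁻¹, μ, μ] with hd
    set d' : Fin 3 → F := ![μ * μ, μ⁻¹, μ⁻¹] with hd'
    have hD : diagonal d ∈ S := mon_diag d ▸ hS.diag_mem (by rw [Fin.prod_univ_three]; simp [hd]; field_simp)
    have hdd : diagonal d * diagonal d' = (1 : Matrix (Fin 3) (Fin 3) F) := by
      rw [diagonal_mul_diagonal, ← diagonal_one]
      congr 1
      funext q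
      fin_cases q <;> simp [hd, hd'] <;> field_simp
    set y := g * diagonal d * B with hy
    set z := g * diagonal d' * B with hz
    have hymem : y ∈ S := hS.closed.mul (hS.closed.mul hg hD) hB
    have hyz : y * z = 1 := by
      calc y * z = g * (diagonal d * (B * g) * diagonal d') * B := by simp only [hy, hz, mul_assoc]
        _ = 1 := by rw [hBg, mul_one, hdd, mul_one, hgB]
    have hye : ∀ i j, y i j = μ * ((1 : Matrix (Fin 3) (Fin 3) F) i j + θ * (g i 0 * B 0 j)) := fun i j => by
      rw [← hgB, hy]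
      simp only [mul_apply, diagonal, of_apply, Fin.sum_univ_three, hd, hθ]
      simp
      field_simp
      ring
    have hze : ∀ i j, z i j = μ⁻¹ * ((1 : Matrix (Fin 3) (Fin 3) F) i j + θ' * (g i 0 * B 0 j)) := fun i j => by
      rw [← hgB, hz]
      simp only [mul_apply, diagonal, of_apply, Fin.sum_univ_three, hd', hθ']
      simp
      field_simp
      ring
    have hoff : ∀ i j, i ≠ j → y i j ≠ 0 := fun i j hij => by
      rw [hye, Matrix.one_apply_ne hij, zero_add]
      exact mul_ne_zero hμ0 (mul_ne_zero hθ0 (mul_ne_zero (hgne i 0) (hBne 0 j)))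
    have hym : ¬ IsMon y := fun hc =>
      absurd (hc 0 1 2 (hoff 0 2 (by decide)) (hoff 1 2 (by decide))) (by decide)
    have rel : ∀ i j l : Fin 3, i ≠ j → l ≠ i → l ≠ j → (1 + θ * a i) ^ 3 = (θ * a l) ^ 3 := by
      intro i j l hij hli hlj
      have h := cubes_eq hS h5 hW hymem hyz (mul_eq_one_comm.1 hyz) hym hij i l
      rw [hye, hye, hze, hze, Matrix.one_apply_eq, Matrix.one_apply_ne hli.symm, Matrix.one_apply_ne hij,
        Matrix.one_apply_ne hlj, zero_add, zero_add] at h
      have h0 : (μ * μ⁻¹ * θ' * (g i 0 * B 0 j)) ^ 3 ≠ 0 :=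
        pow_ne_zero _ (mul_ne_zero (mul_ne_zero (mul_ne_zero hμ0 (inv_ne_zero hμ0)) hθ0')
          (mul_ne_zero (hgne i 0) (hBne 0 j)))
      refine mul_left_cancel₀ h0 ?_
      simp only [ha]
      linear_combination h
    have e02 := rel 0 1 2 (by decide) (by decide) (by decide)
    have e01 := rel 0 2 1 (by decide) (by decide) (by decide)
    have e12 := rel 1 0 2 (by decide) (by decide) (by decide)
    have e10 := rel 1 2 0 (by decide) (by decide) (by decide)
    have e21 := rel 2 0 1 (by decide) (by decide) (by decide)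
    intro i
    fin_cases i
    · show 1 + 3 * (θ * a 0) + 3 * (θ * a 0) ^ 2 = 0
      linear_combination e02 + e10 - e12
    · show 1 + 3 * (θ * a 1) + 3 * (θ * a 1) ^ 2 = 0
      linear_combination e12 + e01 - e02
    · show 1 + 3 * (θ * a 2) + 3 * (θ * a 2) ^ 2 = 0
      linear_combination e21 + e02 - e01
  obtain ⟨μ, hμ0, hμ1, -⟩ := exists_cube h5
  have h3 : (3 : F) ≠ 0 := fun e => by
    have := quad μ hμ0 hμ1 0
    rw [e, zero_mul, zero_mul, add_zero, add_zero] at this
    exact one_ne_zero this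
  by_cases h2 : (2 : F) = 0
  · -- three scalars with distinct cubes
    obtain ⟨u, hu⟩ := IsCyclic.exists_generator (α := Fˣ)
    have ho : orderOf u = Fintype.card F - 1 := by
      rw [orderOf_eq_card_of_forall_mem_zpowers hu, Nat.card_eq_fintype_card, Fintype.card_units]
    haveI : Fact (Nat.Prime 2) := ⟨Nat.prime_two⟩
    haveI : CharP F 2 := (CharP.charP_iff_prime_eq_zero Nat.prime_two).2 (by exact_mod_cast h2)
    obtain ⟨n, -, hn⟩ := FiniteField.card F 2
    have hne : ∀ k, 1 ≤ k → k ≤ 3 → ((u : F) ^ k) ^ 3 ≠ 1 := fun k hk hk3 h => by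
      have h' : u ^ (k * 3) = 1 := Units.ext (by rw [Units.val_pow_eq_pow_val, pow_mul, h, Units.val_one])
      have hdvd := orderOf_dvd_of_pow_eq_one h'
      rw [ho] at hdvd
      have hle := Nat.le_of_dvd (by omega) hdvd
      have hn4 : (n : ℕ) < 4 := by
        by_contra hc
        push Not at hc
        have : 2 ^ 4 ≤ 2 ^ (n : ℕ) := Nat.pow_le_pow_right (by norm_num) hc
        omega
      obtain hn' | hn' | hn' : (n : ℕ) = 1 ∨ (n : ℕ) = 2 ∨ (n : ℕ) = 3 := by have := n.pos; omega
      all_goals rw [hn'] at hn; norm_num at hn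
      · omega
      · omega
      · rw [hn] at hdvd
        interval_cases k <;> norm_num at hdvd
    set θ : ℕ → F := fun k => (((u : F) ^ k) ^ 3)⁻¹ - 1
    have hdist : ∀ k l, 1 ≤ k → k < l → l ≤ 3 → θ k ≠ θ l := fun k l hk hkl hl e => by
      simp only [θ, sub_left_inj, _root_.inv_inj] at e
      rcases Nat.lt_or_ge (l - k) 1 with h | h
      · omega
      refine hne (l - k) h (by omega) (mul_left_cancel₀ (pow_ne_zero 3 (pow_ne_zero k u.ne_zero)) ?_)
      rw [← mul_pow, ← pow_add, mul_one, show k + (l - k) = l by omega]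
      exact e.symm
    have hq : ∀ k, 1 ≤ k → k ≤ 3 → 1 + 3 * (θ k * a 0) + 3 * (θ k * a 0) ^ 2 = 0 := fun k hk hk3 =>
      quad _ (pow_ne_zero k u.ne_zero) (hne k hk hk3) 0
    have hdiff : ∀ k l, 1 ≤ k → k < l → l ≤ 3 → θ k * a 0 + θ l * a 0 + 1 = 0 := fun k l hk hkl hl => by
      have h : (θ k * a 0 - θ l * a 0) * (3 * (θ k * a 0 + θ l * a 0 + 1)) = 0 := by
        linear_combination hq k hk (by omega) - hq l (by omega) hl
      exact (mul_eq_zero.1 ((mul_eq_zero.1 h).resolve_left fun e =>
        hdist k l hk hkl hl (mul_right_cancel₀ (ha0 0) (sub_eq_zero.1 e)))).resolve_left h3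
    exact hdist 2 3 (by norm_num) (by norm_num) (by norm_num)
      (mul_right_cancel₀ (ha0 0) (by
        linear_combination hdiff 1 2 (by norm_num) (by norm_num) (by norm_num) -
          hdiff 1 3 (by norm_num) (by norm_num) (by norm_num)))
  · have hm1 : (-1 : F) ^ 3 ≠ 1 := fun e => h2 (by linear_combination -e)
    have hq : ∀ i, 1 - 6 * a i + 12 * a i ^ 2 = 0 := fun i => by
      have := quad (-1) (by norm_num) hm1 i
      rw [show ((-1 : F) ^ 3)⁻¹ - 1 = -2 by norm_num] at this
      linear_combination this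
    have hpair : ∀ i l, a i = a l ∨ 2 * (a i + a l) = 1 := fun i l => by
      have h : (a i - a l) * ((2 * 3) * (2 * (a i + a l) - 1)) = 0 := by linear_combination hq i - hq l
      rcases mul_eq_zero.1 h with e | e
      · exact Or.inl (sub_eq_zero.1 e)
      · exact Or.inr (sub_eq_zero.1 ((mul_eq_zero.1 e).resolve_left (mul_ne_zero h2 h3)))
    -- two equal values among three
    have hhalf : ∀ i l m : Fin 3, a i + a l + a m = 1 → a i = a l → False := by
      intro i l m hs e
      rcases hpair i m with e' | e'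
      · have h3a : 3 * a i = 1 := by linear_combination hs + e + e'
        exact ha0 i (by linear_combination hq i + (2 - 4 * a i) * h3a - h3a)
      · have h2a : 2 * a i = 1 := by linear_combination 2 * hs + 2 * e - e'
        exact one_ne_zero (α := F) (by linear_combination hq i - (6 * a i) * h2a)
    rcases hpair 0 1 with e | e
    · exact hhalf 0 1 2 hasum e
    rcases hpair 0 2 with e' | e'
    · exact hhalf 0 2 1 (by linear_combination hasum) e'
    exact hhalf 1 2 0 (by linear_combination hasum) (mul_left_cancel₀ h2 (by linear_combination e - e'))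

/-- Stabilisers of three independent lines are maximal for at least five elements. -/
theorem lines_maximal (h5 : 5 ≤ Fintype.card F) {D : Fin 3 → Submodule F (Fin 3 → F)}
    (hD : Cfsg.Geo.IsMDecomposition 1 D) :
    Cfsg.Geo.IsMaximalIn (Cfsg.Geo.specialLinear (Fin 3) F)
      (Cfsg.Geo.decompositionStabilizer D ⊓ Cfsg.Geo.specialLinear (Fin 3) F) :=
  CfsgLib.Classical.GeoFour.isMaximalIn_of_cross (by norm_num) hD fun _ S hS X hX hnb => by
    let π : Fin 3 ≃ Fin 3 × Fin 1 := (Equiv.prodUnique (Fin 3) (Fin 1)).symm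
    let S' : Set (Matrix (Fin 3) (Fin 3) F) := {A | A.submatrix π.symm π.symm ∈ S}
    have hback : ∀ A : Matrix (Fin 3 × Fin 1) (Fin 3 × Fin 1) F,
        (A.submatrix π π).submatrix π.symm π.symm = A := fun A => by
      ext p q; simp
    have hM : MonOver S' :=
      { closed :=
          { mul := fun {A B} hA hB => by
              show (A * B).submatrix π.symm π.symm ∈ S
              rw [← submatrix_mul_equiv A B π.symm π.symm π.symm]; exact hS.closed.mul hA hB
            inv := fun {A} hA => by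
              obtain ⟨C, hC, h1, h2⟩ := hS.closed.inv hA
              refine ⟨C.submatrix π π, by show _ ∈ S; rwa [hback], ?_, ?_⟩
              · have := congrArg (fun Y => Y.submatrix π π) h1
                simpa [← submatrix_mul_equiv _ _ π π π] using this
              · have := congrArg (fun Y => Y.submatrix π π) h2
                simpa [← submatrix_mul_equiv _ _ π π π] using this }
        det_eq := fun {A} hA => by rw [← det_submatrix_equiv_self π.symm A]; exact hS.det_eq hA
        mon_mem := fun σ d hd => hS.blk_mem (by rw [det_submatrix_equiv_self]; exact hd)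
          fun p q p' q' hp hp' e => by
            obtain rfl : q = q' := Prod.ext e (Subsingleton.elim _ _)
            exact congrArg Prod.fst (π.symm.injective (isMon_mon σ d _ _ _ hp hp')) }
    have hXm : ¬ IsMon (X.submatrix π π) := fun h => hnb fun p q p' q' hp hp' e => by
      obtain rfl : q = q' := Prod.ext e (Subsingleton.elim _ _)
      have := h (π.symm p) (π.symm p') (π.symm q) (by simpa using hp) (by simpa using hp')
      rw [π.symm.injective this]
    obtain ⟨s, t, c, hst, hc, hm⟩ := hasTv_of_not_isMon hM h5 (g := X.submatrix π π) (by show _ ∈ S; rwa [hback]) hXm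
    refine ⟨π s, π t, c, fun e => hst ?_, hc, ?_⟩
    · simpa [π] using e
    · have e : (transvection s t c).submatrix π.symm π.symm = transvection (π s) (π t) c := by
        ext p q
        simp [transvection, Matrix.one_apply, Matrix.single_apply, Equiv.eq_symm_apply]
      show _ ∈ S
      rw [← e]; exact hm

end CfsgLib.Classical.GeoThree
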