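import Cfsg.Prelude.Def_GeometricClasses
import Cfsg.Agent.Lib.Classical.GeoFour.OrthFour.Basic
import Cfsg.Agent.Lib.Classical.GeoMaxSmall.SL

/-!
# Similarity groups of quadratic forms are maximal in `SL_3` for odd order

The half turns about anisotropic points replace the arguments through common zeros of two forms
used in dimension four.
-/

set_option autoImplicit false
set_option linter.unusedSectionVars false
set_option linter.unusedSimpArgs false
set_option backward.isDefEq.respectTransparency false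

open Module Matrix

namespace CfsgLib.Classical.GeoThree.OrthThree

open SimMax (polar_symm polar_self' map_add_smul gsieg gsieg_mulVec bv bv_dot Has)
open GeoFour (Full fullCentres sl_le_of_fullCentres)
open GeoFour.OrthFour (SimMem gsieg_isometry exists_singular_pair exists_perp_aniso gsieg_map_has)

variable {ι : Type} [Fintype ι] [DecidableEq ι] {F : Type*} [Field F] [Fintype F]
variable {Q : QuadraticForm F (ι → F)} {M : Subgroup (GL ι F)}

local notation "B" => QuadraticMap.polarBilin Q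

variable (Q) in
/-- The functional of the half turn about an anisotropic point. -/
def turnFun (P : ι → F) : ι → F := (Q P)⁻¹ • bv Q P

variable (Q) in
/-- The matrix of the half turn about an anisotropic point. -/
def turnMat (P : ι → F) : Matrix ι ι F := vecMulVec P (turnFun Q P) - 1

theorem turnMat_mulVec (P x : ι → F) : turnMat Q P *ᵥ x = ((Q P)⁻¹ * B P x) • P - x := by
  rw [turnMat, sub_mulVec, one_mulVec, vecMulVec_mulVec, turnFun, smul_dotProduct, bv_dot,
    op_smul_eq_smul, smul_eq_mul]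

theorem turnMat_det (hn : Fintype.card ι = 3) {P : ι → F} (hP : Q P ≠ 0) : (turnMat Q P).det = 1 := by
  rw [turnMat, ← neg_sub, det_neg, hn, sub_eq_add_neg (1 : Matrix ι ι F), ← neg_vecMulVec,
    vecMulVec_eq Unit, det_one_add_replicateCol_mul_replicateRow, dotProduct_neg, turnFun, smul_dotProduct,
    bv_dot, polar_self', smul_eq_mul]
  field_simp
  ring

theorem turnMat_sq {P : ι → F} (hP : Q P ≠ 0) : turnMat Q P * turnMat Q P = 1 := by
  refine Matrix.ext_iff_mulVec.2 fun x => ?_
  rw [← mulVec_mulVec, turnMat_mulVec, turnMat_mulVec, one_mulVec, map_sub, map_smul, polar_self',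
    smul_eq_mul, show (Q P)⁻¹ * ((Q P)⁻¹ * B P x * (2 * Q P) - B P x) = (Q P)⁻¹ * B P x by
      field_simp; ring]
  abel

/-- The half turn about an anisotropic point. -/
def turn (Q : QuadraticForm F (ι → F)) (P : ι → F) (hP : Q P ≠ 0) : GL ι F :=
  ⟨turnMat Q P, turnMat Q P, turnMat_sq hP, turnMat_sq hP⟩

theorem turn_mulVec {P : ι → F} (hP : Q P ≠ 0) (x : ι → F) :
    (turn Q P hP : Matrix ι ι F) *ᵥ x = ((Q P)⁻¹ * B P x) • P - x := turnMat_mulVec P x

theorem turn_isometry {P : ι → F} (hP : Q P ≠ 0) (x : ι → F) :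
    Q ((turn Q P hP : Matrix ι ι F) *ᵥ x) = Q x := by
  rw [turn_mulVec, show ((Q P)⁻¹ * B P x) • P - x = -(x + (-((Q P)⁻¹ * B P x)) • P) by module,
    QuadraticMap.map_neg, map_add_smul, polar_symm Q x P]
  field_simp
  ring

theorem turn_mem (hn : Fintype.card ι = 3) (hH : SimMem Q M) {P : ι → F} (hP : Q P ≠ 0) :
    turn Q P hP ∈ M :=
  hH _ 1 one_ne_zero (Units.ext (turnMat_det hn hP)) fun x => by rw [turn_isometry, one_mul]

theorem inv_mul_mulVec (g : GL ι F) (x : ι → F) :
    ((g⁻¹ : GL ι F) : Matrix ι ι F) *ᵥ ((g : Matrix ι ι F) *ᵥ x) = x := by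
  rw [mulVec_mulVec, ← Units.val_mul, inv_mul_cancel, Units.val_one, one_mulVec]

theorem turn_map_has (hn : Fintype.card ι = 3) (hH : SimMem Q M) {a b P : ι → F} (h : Has Q M a b)
    (hP : Q P ≠ 0) : Has Q M (((Q P)⁻¹ * B P a) • P - a) (((Q P)⁻¹ * B P b) • P - b) := by
  have := h.map (turn_mem hn hH hP) (SimMax.isometry_polar Q (turn_isometry hP))
  rwa [turn_mulVec, turn_mulVec] at this

theorem has_neg_neg {a b : ι → F} (h : Has Q M a b) : Has Q M (-a) (-b) := by
  obtain ⟨h0, hm⟩ := h
  refine ⟨by rw [bv_dot] at h0 ⊢; rw [map_neg, map_neg, LinearMap.neg_apply, h0, neg_zero, neg_zero], ?_⟩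
  convert hm using 1
  refine Units.ext (Matrix.ext_iff_mulVec.2 fun x => ?_)
  rw [trGL_mulVec, trGL_mulVec, bv_dot, bv_dot, map_neg, LinearMap.neg_apply, neg_smul_neg]

theorem has_smul_left {a b : ι → F} {l : F} (h : Has Q M (l • a) b) : Has Q M a (l • b) := by
  by_cases hl : l = 0
  · rw [hl, zero_smul]; exact SimMax.has_zero a
  obtain ⟨h0, hm⟩ := h
  refine ⟨by
    rw [bv_dot] at h0 ⊢
    rw [map_smul, LinearMap.smul_apply, smul_eq_mul]
    rw [map_smul, smul_eq_mul] at h0
    exact h0, ?_⟩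
  convert hm using 1
  refine Units.ext (Matrix.ext_iff_mulVec.2 fun x => ?_)
  rw [trGL_mulVec, trGL_mulVec, bv_dot, bv_dot, map_smul, LinearMap.smul_apply, smul_smul, smul_eq_mul, mul_comm]

/-- Two homologies with one centre and two axes give a transvection. -/
theorem has_of_two_axes (h2 : (2 : F) ≠ 0) {c d d' : ι → F} {r : F} (hr : r ≠ 0) (hd : B d c = 2 * r)
    (hd' : B d' c = 2 * r) {h h' : GL ι F} (hm : h ∈ M) (hm' : h' ∈ M)
    (he : ∀ x, (h : Matrix ι ι F) *ᵥ x = (r⁻¹ * B d x) • c - x)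
    (he' : ∀ x, (h' : Matrix ι ι F) *ᵥ x = (r⁻¹ * B d' x) • c - x) :
    Has Q M c (r⁻¹ • (d - d')) := by
  refine ⟨by rw [bv_dot, map_smul, map_sub, LinearMap.smul_apply, LinearMap.sub_apply, hd, hd', sub_self,
    smul_zero], ?_⟩
  convert M.mul_mem hm' hm using 1
  refine Units.ext (Matrix.ext_iff_mulVec.2 fun x => ?_)
  rw [Units.val_mul, ← mulVec_mulVec, he, he', trGL_mulVec, bv_dot]
  simp only [map_sub, map_smul, LinearMap.smul_apply, LinearMap.sub_apply, hd', smul_eq_mul]
  match_scalars <;> field_simp <;> ring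

variable (hQ : (QuadraticMap.polarBilin Q).Nondegenerate) (h2 : (2 : F) ≠ 0) (hH : SimMem Q M)
  (hn : Fintype.card ι = 3)
include hQ h2 hH hn

/-- An element moving an anisotropic point to `c` and not its perpendicular line to that of `c`. -/
theorem has_of_mapsTo {g : GL ι F} (hg : g ∈ M) {P : ι → F} (hP : Q P ≠ 0)
    (hne : ¬ ∃ μ : F, ∀ x, B P x = μ * B ((g : Matrix ι ι F) *ᵥ P) ((g : Matrix ι ι F) *ᵥ x)) :
    ∃ w, Has Q M ((g : Matrix ι ι F) *ᵥ P) w ∧ w ≠ 0 := by
  set c := (g : Matrix ι ι F) *ᵥ P with hc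
  set Gi := ((g⁻¹ : GL ι F) : Matrix ι ι F)
  let φ : (ι → F) →ₗ[F] F := (B P).comp (Matrix.toLin' Gi)
  obtain ⟨d, hd⟩ : ∃ d, ∀ x, B d x = B P (Gi *ᵥ x) :=
    ⟨(LinearMap.BilinForm.toDual B hQ).symm φ,
      fun x => LinearMap.BilinForm.apply_toDual_symm_apply (hB := hQ) φ x⟩
  have hgi : ∀ x, Gi *ᵥ ((g : Matrix ι ι F) *ᵥ x) = x := fun x => inv_mul_mulVec g x
  have hdc : B d c = 2 * Q P := by rw [hd, hc, hgi, polar_self']
  have hprop : ¬ ∃ μ : F, d = μ • c := fun ⟨μ, hμ⟩ => hne ⟨μ, fun x => by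
    have := hd ((g : Matrix ι ι F) *ᵥ x)
    rw [hgi, hμ, map_smul, LinearMap.smul_apply, smul_eq_mul] at this
    exact this.symm⟩
  set h := g * turn Q P hP * g⁻¹
  have hhM : h ∈ M := mul_mem (mul_mem hg (turn_mem hn hH hP)) (inv_mem hg)
  have hh : ∀ x, (h : Matrix ι ι F) *ᵥ x = ((Q P)⁻¹ * B d x) • c - x := fun x => by
    rw [show (h : Matrix ι ι F) = (g : Matrix ι ι F) * (turn Q P hP : Matrix ι ι F) * Gi by simp [h, Gi],
      ← mulVec_mulVec, ← mulVec_mulVec, turn_mulVec, mulVec_sub, mulVec_smul, ← hd, ← hc,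
      mulVec_mulVec, ← Units.val_mul, mul_inv_cancel, Units.val_one, one_mulVec]
  clear_value h c
  have hsymm : B c d = 2 * Q P := by rw [polar_symm, hdc]
  -- conjugate by an isometry fixing `c` up to sign
  have key : ∀ k : GL ι F, k ∈ M → (∀ x, Q ((k : Matrix ι ι F) *ᵥ x) = Q x) →
      (k : Matrix ι ι F) *ᵥ c = c → ∀ d', d' = (k : Matrix ι ι F) *ᵥ d → d' ≠ d →
        ∃ w, Has Q M c w ∧ w ≠ 0 := by
    intro k hk hiso hkc d' hd' hne'
    have hB := SimMax.isometry_polar Q hiso
    refine ⟨(Q P)⁻¹ • (d - d'), has_of_two_axes h2 hP hdc ?_ hhM (h' := k * h * k⁻¹)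
      (mul_mem (mul_mem hk hhM) (inv_mem hk)) hh (fun x => ?_), smul_ne_zero (inv_ne_zero hP) (sub_ne_zero.2 hne'.symm)⟩
    · rw [← hkc, hd', hB, hdc]
    · obtain ⟨y, rfl⟩ : ∃ y, (k : Matrix ι ι F) *ᵥ y = x :=
        ⟨((k⁻¹ : GL ι F) : Matrix ι ι F) *ᵥ x, by rw [mulVec_mulVec, ← Units.val_mul, mul_inv_cancel,
          Units.val_one, one_mulVec]⟩
      rw [hd', hB, Units.val_mul, Units.val_mul, ← mulVec_mulVec, ← mulVec_mulVec,
        show ((k⁻¹ : GL ι F) : Matrix ι ι F) *ᵥ ((k : Matrix ι ι F) *ᵥ y) = y by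
          rw [mulVec_mulVec, ← Units.val_mul, inv_mul_cancel, Units.val_one, one_mulVec],
        hh, mulVec_sub, mulVec_smul, hkc]
  by_cases hcQ : Q c = 0
  · obtain ⟨u, hu, huQ⟩ := exists_perp_aniso hQ h2 (by omega) (d := c) (fun e => by
      rw [e, LinearMap.map_zero, LinearMap.zero_apply] at hsymm
      exact mul_ne_zero h2 hP hsymm.symm)
    refine key _ (hH.gsieg_mem hcQ hu) (gsieg_isometry hcQ hu) ?_ _ rfl ?_
    · rw [gsieg_mulVec hcQ hu, polar_self', hcQ, polar_symm Q u c, hu]
      simp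
    · rw [gsieg_mulVec hcQ hu, hsymm]
      intro e
      have e' : (2 * Q P) • u = (B u d + Q u * (2 * Q P)) • c := by
        have := sub_eq_zero.2 e
        rw [add_smul, ← sub_eq_zero, ← this]
        abel
      have := congrArg (B u) e'
      rw [map_smul, map_smul, polar_self', polar_symm Q u c, hu, smul_eq_mul, smul_zero] at this
      exact mul_ne_zero (mul_ne_zero h2 hP) (mul_ne_zero h2 huQ) this
  · refine key _ (turn_mem hn hH hcQ) (turn_isometry hcQ) ?_ _ rfl ?_
    · rw [turn_mulVec, polar_self']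
      have : (Q c)⁻¹ * (2 * Q c) = 2 := by field_simp
      rw [this, two_smul, add_sub_cancel_right]
    · rw [turn_mulVec, hsymm]
      intro e
      refine hprop ⟨((Q c)⁻¹ * (2 * Q P)) / 2, ?_⟩
      have e' : (2 : F) • d = ((Q c)⁻¹ * (2 * Q P)) • c := by
        rw [two_smul]
        exact (eq_add_of_sub_eq e).symm
      rw [div_eq_inv_mul, mul_smul, ← e', smul_smul, inv_mul_cancel₀ h2, one_smul]

/-- An element which is no similarity gives a transvection. -/
theorem exists_has {g : GL ι F} (hg : g ∈ M)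
    (hgs : ¬ ∃ c : F, ∀ x y, B ((g : Matrix ι ι F) *ᵥ x) ((g : Matrix ι ι F) *ᵥ y) = c * B x y) :
    ∃ a b, Has Q M a b ∧ a ≠ 0 ∧ b ≠ 0 := by
  by_contra hnot
  have hall : ∀ P, Q P ≠ 0 → ∃ μ : F, ∀ x,
      B P x = μ * B ((g : Matrix ι ι F) *ᵥ P) ((g : Matrix ι ι F) *ᵥ x) := by
    intro P hP
    by_contra hne
    obtain ⟨w, hw, hw0⟩ := has_of_mapsTo hQ h2 hH hn hg hP hne
    refine hnot ⟨_, w, hw, fun e => hP ?_, hw0⟩
    have := inv_mul_mulVec g P
    rw [e, mulVec_zero] at this
    rw [← this, QuadraticMap.map_zero]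
  let D : (ι → F) →ₗ[F] (ι → F) →ₗ[F] F :=
    (B).compl₁₂ (Matrix.toLin' (g : Matrix ι ι F)) (Matrix.toLin' (g : Matrix ι ι F))
  have hD : ∀ x y, D x y = B ((g : Matrix ι ι F) *ᵥ x) ((g : Matrix ι ι F) *ᵥ y) := fun x y => rfl
  have hani : ∀ P, Q P ≠ 0 → ∃ l : F, D P = l • B P := by
    intro P hP
    obtain ⟨μ, hμ⟩ := hall P hP
    have hμ0 : μ ≠ 0 := by
      intro e
      have := hμ P
      rw [e, zero_mul, polar_self'] at this
      exact mul_ne_zero h2 hP this
    refine ⟨μ⁻¹, LinearMap.ext fun x => ?_⟩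
    rw [LinearMap.smul_apply, smul_eq_mul, hμ x, ← mul_assoc, inv_mul_cancel₀ hμ0, one_mul, hD]
  have heig : ∀ v, ∃ l : F, D v = l • B v := by
    intro v
    by_cases hv : Q v = 0
    swap
    · exact hani v hv
    by_cases hv0 : v = 0
    · exact ⟨0, by rw [hv0, map_zero, zero_smul]⟩
    obtain ⟨u, hu, huQ⟩ := exists_perp_aniso hQ h2 (by omega) hv0
    have huv : B u v = 0 := by rw [polar_symm, hu]
    have h1 : Q (u + (1 : F) • v) ≠ 0 := by rw [map_add_smul, hv, huv]; simpa using huQ
    have h1' : Q (u + (-1 : F) • v) ≠ 0 := by rw [map_add_smul, hv, huv]; simpa using huQ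
    obtain ⟨a, ha⟩ := hani u huQ
    obtain ⟨b, hb⟩ := hani _ h1
    obtain ⟨c, hc⟩ := hani _ h1'
    rw [map_add, map_smul, map_add, map_smul, one_smul, one_smul] at hb
    simp only [map_add, map_smul, neg_smul, one_smul, map_neg] at hc
    have hb' : D v = b • B u + b • B v - a • B u := by rw [← ha, ← smul_add, ← hb, add_sub_cancel_left]
    have hc' : D v = a • B u - (c • B u - c • B v) := by
      rw [← ha]; linear_combination (norm := module) -hc
    have e := hb'.symm.trans hc'
    have eu := LinearMap.congr_fun e u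
    simp only [LinearMap.add_apply, LinearMap.sub_apply, LinearMap.smul_apply, smul_eq_mul, polar_self',
      hu] at eu
    have hsum : b + c = 2 * a := mul_right_cancel₀ (mul_ne_zero h2 huQ) (by linear_combination eu)
    have hbc : b = c := by
      by_contra hne
      refine hv0 (hQ.1 v fun x => ?_)
      have ex := LinearMap.congr_fun e x
      simp only [LinearMap.add_apply, LinearMap.sub_apply, LinearMap.smul_apply, smul_eq_mul] at ex
      exact (mul_eq_zero.1 (show (b - c) * B v x = 0 by linear_combination ex - B u x * hsum)).resolve_left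
        (sub_ne_zero.2 hne)
    refine ⟨b, ?_⟩
    rw [hb', show a = b from mul_left_cancel₀ h2 (by linear_combination -hsum - hbc)]
    abel
  obtain ⟨e₀, -, he₀⟩ : ∃ e, e ∈ (⊤ : Submodule F (ι → F)) ∧ e ≠ 0 := by
    obtain ⟨i⟩ : Nonempty ι := Fintype.card_pos_iff.1 (by omega)
    exact ⟨Pi.single i 1, trivial, by simp⟩
  obtain ⟨l, hl⟩ := heig e₀
  refine hgs ⟨l, fun v y => ?_⟩
  rw [← hD]
  obtain ⟨m, hm⟩ := heig v
  rw [hm, LinearMap.smul_apply, smul_eq_mul]
  by_cases hp : ∃ t : F, v = t • e₀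
  · obtain ⟨t, rfl⟩ := hp
    have := LinearMap.congr_fun hm y
    rw [map_smul, LinearMap.smul_apply, hl, LinearMap.smul_apply, LinearMap.smul_apply] at this
    simp only [smul_eq_mul, map_smul, LinearMap.smul_apply] at this ⊢
    linear_combination -this
  obtain ⟨s, hs⟩ := heig (v + e₀)
  have e : B ((s - m) • v + (s - l) • e₀) = 0 := by
    rw [map_add, hm, hl, map_add, smul_add] at hs
    rw [map_add, map_smul, map_smul, ← sub_eq_zero.2 hs.symm]
    module
  have e0 : (s - m) • v + (s - l) • e₀ = 0 := hQ.1 _ fun z => by rw [e, LinearMap.zero_apply]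
  have hsm : s - m = 0 := by
    by_contra hne
    refine hp ⟨-((s - l) / (s - m)), ?_⟩
    rw [← inv_smul_smul₀ hne v, eq_neg_of_add_eq_zero_left e0, smul_neg, smul_smul, neg_smul, div_eq_inv_mul]
  rw [hsm, zero_smul, zero_add, smul_eq_zero] at e0
  rw [show m = l by linear_combination e0.resolve_right he₀ - hsm]

/-- A transvection with singular centre. -/
theorem exists_has_singular {a b : ι → F} (hab : Has Q M a b) (ha : a ≠ 0) (hb : b ≠ 0) :
    ∃ p w, Has Q M p w ∧ Q p = 0 ∧ p ≠ 0 ∧ w ≠ 0 := by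
  by_cases hQa : Q a = 0
  · exact ⟨a, b, hab, hQa, ha, hb⟩
  obtain ⟨c, hcQ, hbc⟩ := exists_singular_pair hQ h2 (by omega) hb
  have hc0 : c ≠ 0 := fun e => by rw [e, map_zero] at hbc; exact zero_ne_one hbc
  obtain ⟨ε, hεM, hne⟩ : ∃ ε : F, Has Q M a (ε • b) ∧ Q (c + (-(B (ε • b) c)) • a) ≠ 0 := by
    by_contra hnot
    push Not at hnot
    have h1 := hnot 1 (by rwa [one_smul])
    have h2' := hnot (-1) (by rw [neg_one_smul]; exact hab.neg)
    rw [one_smul, hbc, map_add_smul, hcQ, polar_symm Q c a] at h1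
    rw [map_smul, LinearMap.smul_apply, hbc, map_add_smul, hcQ, polar_symm Q c a] at h2'
    simp only [smul_eq_mul] at h1 h2'
    exact mul_ne_zero h2 hQa (by linear_combination h1 + h2')
  set P := c + (-(B (ε • b) c)) • a with hPdef
  have hperp := hεM.perp
  obtain ⟨h0, hT⟩ := hεM
  set T := trGL a (bv Q (ε • b)) h0
  have hTP : (T : Matrix ι ι F) *ᵥ P = c := by
    simp only [T, trGL_mulVec, bv_dot, hPdef, map_add, map_smul (B (ε • b)), hperp, smul_zero, add_zero]
    module
  clear_value P T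
  obtain ⟨w, hw, hw0⟩ := has_of_mapsTo hQ h2 hH hn hT hne (by
    rintro ⟨μ, hμ⟩
    have := hμ P
    rw [hTP, polar_self' Q c, hcQ, mul_zero, mul_zero, polar_self'] at this
    exact mul_ne_zero h2 hne this)
  rw [hTP] at hw
  exact ⟨c, w, hw, hcQ, hc0, hw0⟩

/-- A transvection generates `SL` together with the similarities. -/
theorem sl_le_of_has {a₀ b₀ : ι → F} (h₀ : Has Q M a₀ b₀) (ha₀ : a₀ ≠ 0) (hb₀ : b₀ ≠ 0) :
    Cfsg.Geo.specialLinear ι F ≤ M := by
  classical
  have h3 : 3 ≤ Fintype.card ι := by omega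
  obtain ⟨p, w, hw, hp, hp0, hw0⟩ := exists_has_singular hQ h2 hH hn h₀ ha₀ hb₀
  have hpp : B p p = 0 := by rw [polar_self', hp, mul_zero]
  obtain ⟨e, heQ, hpe⟩ := exists_singular_pair hQ h2 h3 hp0
  have hep : B e p = 1 := by rw [polar_symm, hpe]
  have hee : B e e = 0 := by rw [polar_self', heQ, mul_zero]
  -- axis the polar of the centre
  obtain ⟨l, hl, hla⟩ : ∃ l : F, l ≠ 0 ∧ Has Q M p (l • p) := by
    by_cases hmul : ∃ l : F, w = l • p
    · obtain ⟨l, rfl⟩ := hmul
      exact ⟨l, fun e' => hw0 (by rw [e', zero_smul]), hw⟩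
    obtain ⟨u, hu, hub⟩ : ∃ u, B p u = 0 ∧ B w u ≠ 0 := by
      by_contra hc
      push Not at hc
      refine hmul ⟨B w e, sub_eq_zero.1 (hQ.1 _ fun z => ?_)⟩
      have h := hc (z - B p z • e) (by rw [map_sub, map_smul, hpe, smul_eq_mul, mul_one, sub_self])
      rw [map_sub, map_smul, smul_eq_mul] at h
      rw [map_sub, LinearMap.sub_apply, map_smul, LinearMap.smul_apply, smul_eq_mul]
      linear_combination h
    have h' := gsieg_map_has hH hw hp hu
    rw [hpp, polar_symm Q u p, hu, zero_smul, mul_zero, zero_smul, add_zero, sub_zero, sub_zero,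
      polar_symm Q p w, hw.perp, zero_smul, mul_zero, zero_smul, add_zero, sub_zero] at h'
    have h'' := (h'.add hw.neg).neg
    refine ⟨B u w, by rwa [polar_symm Q u w], ?_⟩
    rwa [show -(w - B u w • p + -w) = B u w • p by abel] at h''
  -- all multiples, by the torus
  have hQpe : ∀ μ : F, Q (p + μ • e) = μ := fun μ => by rw [map_add_smul, hp, heQ, hpe]; ring
  have hPp : ∀ μ : F, B (p + μ • e) p = μ := fun μ => by
    rw [map_add, map_smul, LinearMap.add_apply, LinearMap.smul_apply, hpp, hep, zero_add, smul_eq_mul, mul_one]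
  have hswap : ∀ {t : F}, Has Q M p (t • p) → Has Q M e (t • e) := by
    intro t ht
    have h := turn_map_has hn hH ht (P := p + (1 : F) • e) (by rw [hQpe]; exact one_ne_zero)
    rw [map_smul, hQpe, hPp, inv_one, smul_eq_mul] at h
    convert h using 1 <;> module
  have hsq : ∀ {μ : F}, μ ≠ 0 → Has Q M p ((μ⁻¹ * μ⁻¹ * l) • p) := by
    intro μ hμ
    have h := turn_map_has hn hH (hswap hla) (P := p + μ • e) (by rw [hQpe]; exact hμ)
    have hPe : B (p + μ • e) e = 1 := by
      rw [map_add, map_smul, LinearMap.add_apply, LinearMap.smul_apply, hpe, hee, smul_zero, add_zero]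
    rw [map_smul, hQpe, hPe, mul_one, smul_eq_mul, mul_one] at h
    have e1 : μ⁻¹ • (p + μ • e) - e = μ⁻¹ • p := by
      rw [smul_add, smul_smul, inv_mul_cancel₀ hμ, one_smul, add_sub_cancel_right]
    have e2 : (μ⁻¹ * l) • (p + μ • e) - l • e = (μ⁻¹ * l) • p := by
      rw [smul_add, smul_smul, mul_right_comm, inv_mul_cancel₀ hμ, one_mul, add_sub_cancel_right]
    rw [e1, e2] at h
    have := has_smul_left h
    rwa [smul_smul, ← mul_assoc] at this
  have hsq' : ∀ ν : F, Has Q M p ((ν * ν * l) • p) := by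
    intro ν
    by_cases hν : ν = 0
    · rw [hν]; simpa using SimMax.has_zero (Q := Q) (M := M) p
    have := hsq (inv_ne_zero hν)
    rwa [inv_inv] at this
  have hall : ∀ t : F, Has Q M p (t • p) := by
    intro t
    have h := (hsq' ((t / l + 1) / 2)).add (hsq' ((t / l - 1) / 2)).neg
    rw [← neg_smul, ← add_smul] at h
    convert h using 2
    field_simp
    ring
  -- a full group of transvections with anisotropic centre
  obtain ⟨u, hpu, heu, huQ⟩ : ∃ u, B p u = 0 ∧ B e u = 0 ∧ Q u ≠ 0 := by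
    obtain ⟨u₀, hu₀, hu₀Q⟩ := exists_perp_aniso hQ h2 h3 hp0
    refine ⟨u₀ + (-(B e u₀)) • p, ?_, ?_, ?_⟩
    · rw [map_add, map_smul, hu₀, hpp, smul_zero, add_zero]
    · rw [map_add, map_smul, hep, smul_eq_mul, mul_one, add_neg_cancel]
    · rw [map_add_smul, hp, polar_symm Q u₀ p, hu₀]
      simpa using hu₀Q
  set k := -Q u with hk
  have hk0 : k ≠ 0 := neg_ne_zero.2 huQ
  set a := e + k • p with ha
  set b := e + (-k) • p with hb
  have hab : ∀ t : F, Has Q M a (t • b) := by
    intro t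
    obtain ⟨h0, hm⟩ := hall k
    obtain ⟨h1, hm1⟩ := hswap (hall t)
    set X := trGL p (bv Q (k • p)) h0
    have hX : ∀ x, (X : Matrix ι ι F) *ᵥ x = x + (k * B p x) • p := fun x => by
      rw [trGL_mulVec, bv_dot, map_smul, LinearMap.smul_apply, smul_eq_mul]
    have h2' : bv Q (t • b) ⬝ᵥ a = 0 := by
      rw [bv_dot, hb, ha]
      simp only [map_add, map_smul, LinearMap.add_apply, LinearMap.smul_apply, smul_eq_mul, hee, hpe, hep, hpp]
      ring
    refine ⟨h2', ?_⟩
    rw [← SimMax.conj_eq_trGL (g := X) (h := h1) (fun x => by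
      rw [bv_dot, bv_dot, hX, hX, hb, ha]
      simp only [map_add, map_smul, LinearMap.add_apply, LinearMap.smul_apply, smul_eq_mul, hee, hpe, hep, hpp]
      match_scalars <;> ring)]
    exact mul_mem (mul_mem hm hm1) (inv_mem hm)
  have hau : B a u = 0 := by
    rw [ha, map_add, map_smul, LinearMap.add_apply, LinearMap.smul_apply, heu, hpu, smul_zero, add_zero]
  have hbu : B b u = 0 := by
    rw [hb, map_add, map_smul, LinearMap.add_apply, LinearMap.smul_apply, heu, hpu, smul_zero, add_zero]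
  have hba : B b a = 0 := by
    rw [hb, ha]
    simp only [map_add, map_smul, LinearMap.add_apply, LinearMap.smul_apply, smul_eq_mul, hee, hpe, hep, hpp]
    ring
  have hQa : Q a = -Q u := by rw [ha, map_add_smul, heQ, hp, hep, hk]; ring
  have hQb : Q b = Q u := by rw [hb, map_add_smul, heQ, hp, hep, hk]; ring
  clear_value a b
  have hau' : ∀ t : F, Has Q M a (t • u) := by
    intro t
    have hP : Q (b + (1 : F) • u) = 2 * Q u := by rw [map_add_smul, hQb, hbu]; ring
    have hP0 : Q (b + (1 : F) • u) ≠ 0 := by rw [hP]; exact mul_ne_zero h2 huQ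
    have h := turn_map_has hn hH (hab t) hP0
    have hPa : B (b + (1 : F) • u) a = 0 := by
      rw [map_add, map_smul, LinearMap.add_apply, LinearMap.smul_apply, hba, polar_symm Q u a, hau, smul_zero,
        add_zero]
    have hPb : B (b + (1 : F) • u) b = 2 * Q u := by
      rw [map_add, map_smul, LinearMap.add_apply, LinearMap.smul_apply, polar_self', hQb, polar_symm Q u b, hbu,
        smul_zero, add_zero]
    rw [hPa, map_smul, smul_eq_mul, hPb, hP, mul_zero, zero_smul, zero_sub] at h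
    have := has_neg_neg h
    rw [neg_neg] at this
    convert this.neg using 1
    rw [neg_neg, one_smul, show (2 * Q u)⁻¹ * (t * (2 * Q u)) = t by field_simp]
    module
  have hbb : B b b ≠ 0 := by rw [polar_self', hQb]; exact mul_ne_zero h2 huQ
  have huu : B u u ≠ 0 := by rw [polar_self']; exact mul_ne_zero h2 huQ
  have haa : B a a ≠ 0 := by rw [polar_self', hQa]; exact mul_ne_zero h2 (neg_ne_zero.2 huQ)
  let v : Fin 3 → ι → F := ![a, b, u]
  have hli : LinearIndependent F v := by
    rw [Fintype.linearIndependent_iff]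
    intro g hg i
    simp only [v, Fin.sum_univ_three, Matrix.cons_val] at hg
    have ga := congrArg (B a) hg
    have gb := congrArg (B b) hg
    have gu := congrArg (B u) hg
    simp only [map_add, map_smul, map_zero, smul_eq_mul, hba, polar_symm Q a b, hau, hbu, polar_symm Q u a,
      polar_symm Q u b, mul_zero, add_zero, zero_add] at ga gb gu
    fin_cases i
    · exact (mul_eq_zero.1 ga).resolve_right haa
    · exact (mul_eq_zero.1 gb).resolve_right hbb
    · exact (mul_eq_zero.1 gu).resolve_right huu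
  have htop : Submodule.span F (Set.range v) = ⊤ :=
    hli.span_eq_top_of_card_eq_finrank (by rw [Fintype.card_fin, Module.finrank_fintype_fun_eq_card, hn])
  have hfull : Full M a := by
    intro f hf
    obtain ⟨β, hβ⟩ : ∃ β, ∀ x, B β x = f ⬝ᵥ x :=
      ⟨(LinearMap.BilinForm.toDual B hQ).symm ((dotProductBilin F F) f), fun x =>
        LinearMap.BilinForm.apply_toDual_symm_apply (hB := hQ) ((dotProductBilin F F) f) x⟩
    set r := β - ((B b β / B b b) • b + (B u β / B u u) • u) with hr
    have hrz : r = 0 := by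
      refine hQ.1 r fun z => ?_
      have hz : z ∈ Submodule.span F (Set.range v) := htop ▸ Submodule.mem_top
      induction hz using Submodule.span_induction with
      | mem x hx =>
        obtain ⟨i, rfl⟩ := hx
        rw [polar_symm]
        fin_cases i
        · show B a r = 0
          rw [hr]
          simp only [map_sub, map_add, map_smul, polar_symm Q a β, hβ, hf, polar_symm Q a b, hba, hau]
          simp
        · show B b r = 0
          rw [hr]
          simp only [map_sub, map_add, map_smul, hbu, smul_eq_mul, div_mul_cancel₀ _ hbb]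
          ring
        · show B u r = 0
          rw [hr]
          simp only [map_sub, map_add, map_smul, polar_symm Q u b, hbu, smul_eq_mul, div_mul_cancel₀ _ huu]
          ring
      | zero => exact map_zero _
      | add x y _ _ hx hy => rw [map_add, hx, hy, add_zero]
      | smul k x _ hx => rw [map_smul, hx, smul_zero]
    have hβ' : Has Q M a β := by
      rw [sub_eq_zero.1 hrz]
      exact (hab _).add (hau' _)
    obtain ⟨hh, hm⟩ := hβ'
    convert hm using 1
    exact Units.ext (Matrix.ext_iff_mulVec.2 fun x => by rw [trGL_mulVec, trGL_mulVec, bv_dot, hβ])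
  refine sl_le_of_fullCentres (eq_top_iff.2 fun x _ => ?_)
  have haW : a ∈ fullCentres M := hfull
  -- half turns about the vectors of the orthogonal basis move `a` everywhere
  have hmove : ∀ {P : ι → F}, Q P ≠ 0 → B P a ≠ 0 → P ∈ fullCentres M := by
    intro P hP hPa
    have h : (turn Q P hP : Matrix ι ι F) *ᵥ a ∈ fullCentres M := Full.map haW (turn_mem hn hH hP)
    rw [turn_mulVec] at h
    have := (fullCentres M).add_mem h haW
    rw [sub_add_cancel] at this
    exact (Submodule.smul_mem_iff _ (mul_ne_zero (inv_ne_zero hP) hPa)).1 this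
  have hsigns : ∀ s t : F, s * s = 1 → t * t = 1 → a + s • b + t • u ∈ fullCentres M := by
    intro s t hs ht
    refine hmove ?_ ?_
    · rw [map_add_smul, map_add_smul, hQa, hQb, polar_symm Q a b, hba, map_add, map_smul, LinearMap.add_apply,
        LinearMap.smul_apply, hau, hbu, hs, ht]
      simpa using huQ
    · rw [map_add, map_add, map_smul, map_smul, LinearMap.add_apply, LinearMap.add_apply, LinearMap.smul_apply,
        LinearMap.smul_apply, hba, polar_symm Q u a, hau, smul_zero, smul_zero, add_zero, add_zero]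
      exact haa
  have hb' : b ∈ fullCentres M := (Submodule.smul_mem_iff _ h2).1 (by
    convert (fullCentres M).sub_mem (hsigns 1 1 (by ring) (by ring)) (hsigns (-1) 1 (by ring) (by ring)) using 1
    module)
  have hu' : u ∈ fullCentres M := (Submodule.smul_mem_iff _ h2).1 (by
    convert (fullCentres M).sub_mem (hsigns 1 1 (by ring) (by ring)) (hsigns 1 (-1) (by ring) (by ring)) using 1
    module)
  have hx : x ∈ Submodule.span F (Set.range v) := htop ▸ Submodule.mem_top
  refine Submodule.span_le.2 ?_ hx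
  rintro _ ⟨i, rfl⟩
  fin_cases i <;> assumption

end CfsgLib.Classical.GeoThree.OrthThree

namespace CfsgLib.Classical.GeoThree

open Cfsg

theorem orth_maximal {F : Type*} [Field F] [Fintype F] (n : ℕ) (hn : n = 3) (hodd : Odd (Fintype.card F)) (Q : (Fin n → F) → F) (hQ : Cfsg.Geo.IsNondegenerateQuadraticForm Q) : Cfsg.Geo.IsMaximalIn (Cfsg.Geo.specialLinear (Fin n) F) (Cfsg.Geo.quadSimilarityGroup Q ⊓ Cfsg.Geo.specialLinear (Fin n) F) := by
  obtain ⟨Q', hQf, hnd⟩ := CfsgLib.Classical.exists_quadOf hQ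
  have h2 : (2 : F) ≠ 0 := by
    intro h
    have hc : ringChar F = 2 := CharP.ringChar_of_prime_eq_zero Nat.prime_two (by exact_mod_cast h)
    exact (Nat.not_even_iff_odd.2 hodd) (Nat.even_iff.2 (FiniteField.even_card_of_char_two hc))
  have hn' : Fintype.card (Fin n) = 3 := by rwa [Fintype.card_fin]
  have he0 : (Pi.single (⟨0, by omega⟩ : Fin n) (1 : F) : Fin n → F) ≠ 0 := by simp
  refine ⟨lt_of_le_of_ne inf_le_right ?_, fun M hM hMK => ?_⟩
  · intro he
    obtain ⟨d, hdQ, hed⟩ := GeoFour.OrthFour.exists_singular_pair hnd h2 (by omega) he0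
    have hd0 : d ≠ 0 := fun e => by rw [e, map_zero] at hed; exact zero_ne_one hed
    have hdd : QuadraticMap.polarBilin Q' d d = 0 := by rw [SimMax.polar_self', hdQ, mul_zero]
    obtain ⟨u, hu, huQ⟩ := GeoFour.OrthFour.exists_perp_aniso hnd h2 (by omega) hd0
    obtain ⟨y, hyQ, hy⟩ := GeoFour.OrthFour.exists_singular_pair hnd h2 (by omega) hd0
    have h0 : SimMax.bv Q' d ⬝ᵥ d = 0 := by rw [SimMax.bv_dot, hdd]
    obtain ⟨c, hc⟩ := (he.symm.le (trGL_mem_sl d _ h0)).1
    have h1 := hc u
    rw [trGL_mulVec, SimMax.bv_dot, hu, zero_smul, add_zero, hQf] at h1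
    have hc1 : (c : F) = 1 := mul_right_cancel₀ huQ (h1.symm.trans (one_mul _).symm)
    have h3 := hc y
    rw [trGL_mulVec, SimMax.bv_dot, hy, hQf, hQf, SimMax.map_add_smul, hdQ, hyQ, SimMax.polar_symm Q' y d, hy,
      hc1] at h3
    simp at h3
  · rcases eq_or_ne M (Cfsg.Geo.quadSimilarityGroup Q ⊓ Cfsg.Geo.specialLinear (Fin n) F) with h | h
    · exact Or.inl h
    refine Or.inr (le_antisymm hMK ?_)
    obtain ⟨g, hg, hgH⟩ := SetLike.not_le_iff_exists.1 fun hle => h (le_antisymm hle hM)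
    have hH : GeoFour.OrthFour.SimMem Q' M := fun s c hc hs hsim => hM
      ⟨⟨Units.mk0 c hc, fun v => by rw [hQf, hQf]; exact hsim v⟩, hs⟩
    have hgs : ¬ ∃ c : F, ∀ x y, QuadraticMap.polarBilin Q' ((g : Matrix (Fin n) (Fin n) F).mulVec x)
        ((g : Matrix (Fin n) (Fin n) F).mulVec y) = c * QuadraticMap.polarBilin Q' x y := by
      rintro ⟨c, hc⟩
      have hc0 : c ≠ 0 := by
        rintro rfl
        refine he0 (hnd.1 _ fun y => ?_)
        have := hc (((g⁻¹ : GL (Fin n) F) : Matrix (Fin n) (Fin n) F).mulVec (Pi.single (⟨0, by omega⟩ : Fin n) (1 : F)))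
          (((g⁻¹ : GL (Fin n) F) : Matrix (Fin n) (Fin n) F).mulVec y)
        rwa [Matrix.mulVec_mulVec, Matrix.mulVec_mulVec, ← Units.val_mul, mul_inv_cancel, Units.val_one, Matrix.one_mulVec,
          Matrix.one_mulVec, zero_mul] at this
      refine hgH ⟨⟨Units.mk0 c hc0, fun v => ?_⟩, hMK hg⟩
      have := hc v v
      rw [SimMax.polar_self', SimMax.polar_self', mul_left_comm] at this
      rw [hQf, hQf]
      exact mul_left_cancel₀ h2 this
    obtain ⟨a, b, hab, ha, hb⟩ := OrthThree.exists_has hnd h2 hH hn' hg hgs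
    exact OrthThree.sl_le_of_has hnd h2 hH hn' hab ha hb

end CfsgLib.Classical.GeoThree
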