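import Cfsg.Prelude.Def_GeometricClasses
import Cfsg.Agent.Lib.Classical.GeoFour.UnitFour
import Cfsg.Agent.Lib.Classical.GeoMaxSmall.SL

/-!
# Unitary similarity groups are maximal in `SL_3`

The Eichler elements give all multiples of a transvection with isotropic centre and polar axis,
so no scalars from tori are needed.
-/

set_option autoImplicit false
set_option linter.unusedSectionVars false
set_option linter.unusedSimpArgs false

open Module Matrix

namespace CfsgLib.Classical.GeoThree.UnitThree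

open GeoFour.UnitFour
open GeoFour (Full fullCentres sl_le_of_fullCentres)

variable {F : Type*} [Field F] [Finite F] {σ : F →+* F} {n : ℕ}
  {B : (Fin n → F) →ₛₗ[σ] (Fin n → F) →ₗ[F] F} {M : Subgroup (GL (Fin n) F)}

variable (h : IsHermitian B) (hN : B.SeparatingRight)
include h hN

/-- Eichler elements. -/
theorem exists_eichler {v z : Fin n → F} (hv : B v v = 0) (hvz : B v z = 0) {ε : F}
    (hε : ε + σ ε = -B z z) :
    ∃ g : isomGroup B, (∀ x, g.1 x = x + B v x • (z + ε • v) - B z x • v) ∧ idet B g = 1 := by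
  have hzv : B z v = 0 := h.isRefl _ _ hvz
  set T₁ := LinearMap.transvection (B v) (z + ε • v)
  set T₂ := LinearMap.transvection (-B z) v
  have hL : ∀ x, (T₁ * T₂) x = x + B v x • (z + ε • v) - B z x • v := fun x => by
    simp only [T₁, T₂, Module.End.mul_apply, LinearMap.transvection.apply, LinearMap.neg_apply, map_add, map_smul,
      hv, smul_zero, add_zero]
    module
  obtain ⟨g, hg⟩ := h.exists_of_preserving hN (T₁ * T₂) fun x y => by
    rw [hL, hL]
    simp only [map_add, map_sub, map_smul, map_smulₛₗ, LinearMap.add_apply, LinearMap.sub_apply,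
      LinearMap.smul_apply, smul_eq_mul, map_mul, hv, hvz, hzv, h.symm, RingHom.id_apply]
    linear_combination (B x v * B v y) * hε
  refine ⟨g, fun x => by rw [hg, hL], ?_⟩
  change LinearMap.det (g.1 : (Fin n → F) →ₗ[F] (Fin n → F)) = 1
  rw [show (g.1 : (Fin n → F) →ₗ[F] (Fin n → F)) = T₁ * T₂ from LinearMap.ext hg, map_mul]
  simp [T₁, T₂, LinearMap.transvection.det, hv, hvz, hzv]

theorem exists_eichler_shift {v a : Fin n → F} (hv : B v v = 0) (hva : B v a = 0) (ha : B a a ≠ 0) (δ : F) :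
    ∃ g : isomGroup B, idet B g = 1 ∧ g.1 v = v ∧ g.1 a = a + δ • v := by
  set z := σ (-δ / B a a) • a with hz
  have hvz : B v z = 0 := by rw [hz, map_smul, hva, smul_zero]
  obtain ⟨ε, hε⟩ := h.conj.exists_trace_eq (a := -B z z) (by rw [map_neg, h.self_fixed])
  obtain ⟨g, hg, hd⟩ := exists_eichler h hN hv hvz hε
  refine ⟨g, hd, ?_, ?_⟩
  · rw [hg, hv, h.isRefl _ _ hvz, zero_smul, zero_smul, add_zero, sub_zero]
  · rw [hg, hva, zero_smul, add_zero, sub_eq_add_neg, ← neg_smul, hz, map_smulₛₗ, LinearMap.smul_apply,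
      h.conj.invol, smul_eq_mul, div_mul_cancel₀ _ ha, neg_neg]

variable (hM : ∀ t : isomGroup B, idet B t = 1 → linToGL t.1 ∈ M)
include hM

omit hN hM in
theorem aniso_of_perp_isotropic (hN : B.SeparatingRight) (hn : n = 3) {a b : Fin n → F}
    (hi : LinearIndependent F ![a, b]) (hba : B b a = 0) (haa : B a a = 0) : B b b ≠ 0 := by
  intro hbb
  have hab := h.isRefl _ _ hba
  have ha0 : a ≠ 0 := hi.ne_zero 0
  have hnd : NondegOn B (⊤ : Submodule F (Fin n → F)) :=
    nondegOn_iff.2 fun y _ hy => hN y fun w => hy w trivial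
  obtain ⟨w, -, hw, haw⟩ := h.exists_partner hnd trivial ha0 haa
  have hwa : B w a = 1 := by rw [← h.symm, haw, map_one]
  set b' := b - B w b • a with hb'
  have h1 : B a b' = 0 := by simp [hb', hab, haa]
  have h2 : B w b' = 0 := by simp [hb', hwa]
  have h3 : B b' b' = 0 := by simp [hb', hbb, hab, hba, haa]
  have hb0 : b' ≠ 0 := fun e => one_ne_zero (α := F) (LinearIndependent.pair_iff.1 hi (-(B w b)) 1 (by
    rw [neg_smul, one_smul, neg_add_eq_sub, ← hb', e])).2
  let v : Fin 3 → Fin n → F := ![a, w, b']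
  have hli : LinearIndependent F v := by
    rw [Fintype.linearIndependent_iff]
    intro g hg i
    simp only [v, Fin.sum_univ_three, Matrix.cons_val] at hg
    have ga := congrArg (B a) hg
    have gw := congrArg (B w) hg
    simp only [map_add, map_smul, map_zero, smul_eq_mul, haa, haw, hwa, hw, h1, h2, mul_zero, mul_one, add_zero,
      zero_add] at ga gw
    rw [ga, gw, zero_smul, zero_smul, zero_add, zero_add, smul_eq_zero] at hg
    fin_cases i
    exacts [gw, ga, hg.resolve_right hb0]
  have htop : Submodule.span F (Set.range v) = ⊤ :=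
    hli.span_eq_top_of_card_eq_finrank (by rw [Fintype.card_fin, Module.finrank_fin_fun, hn])
  refine hb0 (hN b' fun z => ?_)
  have hz : z ∈ Submodule.span F (Set.range v) := htop ▸ Submodule.mem_top
  induction hz using Submodule.span_induction with
  | mem x hx =>
    obtain ⟨i, rfl⟩ := hx
    fin_cases i <;> assumption
  | zero => simp
  | add x y _ _ hx hy => rw [map_add, LinearMap.add_apply, hx, hy, add_zero]
  | smul k x _ hx => rw [map_smulₛₗ, LinearMap.smul_apply, hx, smul_zero]

/-- All multiples of the transvection with some isotropic centre and polar axis. -/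
theorem exists_root (hn : n = 3) {a b : Fin n → F} (hi : LinearIndependent F ![a, b]) (e : B b a = 0)
    (hg : GoodPair B M a b) : ∃ v : Fin n → F, B v v = 0 ∧ v ≠ 0 ∧ ∀ γ : F, GoodPair B M (γ • v) v := by
  have hab : B a b = 0 := h.isRefl _ _ e
  -- an isotropic axis
  have hright : ∀ {a b : Fin n → F}, B b a = 0 → GoodPair B M a b → B b b = 0 → b ≠ 0 → B a a ≠ 0 →
      ∃ v : Fin n → F, B v v = 0 ∧ v ≠ 0 ∧ ∀ γ : F, GoodPair B M (γ • v) v := by
    intro a b e hg hbb hb0 haa
    refine ⟨b, hbb, hb0, fun γ => ?_⟩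
    obtain ⟨g, hd, hgb, hga⟩ := exists_eichler_shift h hN hbb e haa γ
    have h1 := good_map hM e hg hd
    rw [hgb, hga] at h1
    have h2 := good_add_left (a := a + γ • b) (a' := -a) (by rw [map_add, map_smul, e, hbb, smul_zero, add_zero])
      (by rw [map_neg, e, neg_zero]) h1 (good_neg e hg).2
    rwa [show a + γ • b + -a = γ • b by abel] at h2
  by_cases haa : B a a = 0
  · have hbb := aniso_of_perp_isotropic h hN hn hi e haa
    refine ⟨a, haa, hi.ne_zero 0, fun γ => ?_⟩
    obtain ⟨g, hd, hga, hgb⟩ := exists_eichler_shift h hN haa hab hbb (σ γ)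
    have h1 := good_map hM e hg hd
    rw [hga, hgb] at h1
    have h2 := good_add_right (b := b + σ γ • a) (b' := -b)
      (by rw [map_add, map_smulₛₗ, LinearMap.add_apply, LinearMap.smul_apply, e, haa, smul_zero, add_zero])
      (by rw [map_neg, LinearMap.neg_apply, e, neg_zero]) h1 (good_neg e hg).1
    rw [show b + σ γ • a + -b = σ γ • a by abel] at h2
    refine good_congr h2 (by rw [map_smulₛₗ, LinearMap.smul_apply, haa, smul_zero]) fun x => ?_
    rw [map_smulₛₗ, LinearMap.smul_apply, h.conj.invol, smul_smul, smul_eq_mul, mul_comm]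
  by_cases hbb : B b b = 0
  · exact hright e hg hbb (hi.ne_zero 1) haa
  -- both anisotropic: move the axis
  set U := perp B (Submodule.span F {a})
  have hU : ∀ {z}, z ∈ U ↔ B a z = 0 := fun {z} => by
    refine ⟨fun hz => mem_perp.1 hz a (Submodule.mem_span_singleton_self a), fun hz => mem_perp.2 fun w hw => ?_⟩
    obtain ⟨c, rfl⟩ := Submodule.mem_span_singleton.1 hw
    rw [map_smulₛₗ, LinearMap.smul_apply, hz, smul_zero]
  have hnd : NondegOn B U := nondegOn_perp hN (h.nondegOn_span_singleton haa)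
  have hUd : 2 ≤ finrank F U := by
    have h2 := finrank_le_finrank_perp_add B (Submodule.span F {a})
    have h1 : finrank F (Submodule.span F {a}) ≤ 1 := by
      refine (finrank_span_le_card _).trans ?_
      simp
    have h3 : finrank F (Fin n → F) = n := Module.finrank_fin_fun F
    change 2 ≤ finrank F (perp B (Submodule.span F {a}))
    omega
  obtain ⟨v, hv, hvv, hvb⟩ : ∃ v ∈ U, B v v = 0 ∧ B v b ≠ 0 := by
    by_contra hall
    push Not at hall
    refine hbb ?_
    have key : ∀ u ∈ Submodule.span F {x | x ∈ U ∧ B x x = 0}, B u b = 0 := fun u hu => by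
      induction hu using Submodule.span_induction with
      | mem u hu => exact hall u hu.1 hu.2
      | zero => simp
      | add u w _ _ hu hw => simp [hu, hw]
      | smul r u _ hu => simp [hu]
    exact key b (h.le_span_isotropic hnd hUd (hU.2 hab))
  obtain ⟨c, hc0, hc⟩ := h.conj.exists_trace_zero
  obtain ⟨t, ht⟩ := h.exists_uTv hN hvv hc
  have hva : B v a = 0 := h.isRefl _ _ (hU.1 hv)
  have hta : t.1 a = a := by rw [ht.2.2, hva, mul_zero, zero_smul, add_zero]
  have h1 := good_map hM e hg (h.idet_uTv ht)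
  rw [hta, ht.2.2] at h1
  have h2 := good_add_right (b := b + (c * B v b) • v) (b' := -b)
    (by rw [map_add, map_smulₛₗ, LinearMap.add_apply, LinearMap.smul_apply, e, hva, smul_zero, add_zero])
    (by rw [map_neg, LinearMap.neg_apply, e, neg_zero]) h1 (good_neg e hg).1
  rw [show b + (c * B v b) • v + -b = (c * B v b) • v by abel] at h2
  have hk : c * B v b ≠ 0 := mul_ne_zero hc0 hvb
  refine hright (by rw [map_smulₛₗ, LinearMap.smul_apply, hva, smul_zero]) h2 (by rw [h.smul_self, hvv, mul_zero])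
    (smul_ne_zero hk fun e0 => hvb (by simp [e0])) haa

/-- An anisotropic centre with all multiples of one axis. -/
theorem exists_line {v : Fin n → F} (hv : B v v = 0) (hv0 : v ≠ 0) (hroot : ∀ γ : F, GoodPair B M (γ • v) v) :
    ∃ a b : Fin n → F, B a a ≠ 0 ∧ B b a = 0 ∧ b ≠ 0 ∧ ∀ l : F, GoodPair B M a (l • b) := by
  have hnd : NondegOn B (⊤ : Submodule F (Fin n → F)) :=
    nondegOn_iff.2 fun y _ hy => hN y fun w => hy w trivial
  obtain ⟨w, -, hw, hvw⟩ := h.exists_partner hnd trivial hv0 hv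
  have hwv : B w v = 1 := by rw [← h.symm, hvw, map_one]
  obtain ⟨c, hc0, hc⟩ := h.conj.exists_trace_zero
  obtain ⟨t, ht⟩ := h.exists_uTv hN hw hc
  -- a second centre
  set v' := v + c • w
  have htv : t.1 v = v' := by rw [ht.2.2, hwv, mul_one]
  have hv' : B v' v' = 0 := by rw [← htv, isomGroup_apply, hv]
  have hroot' : ∀ γ : F, GoodPair B M (γ • v') v' := fun γ => by
    have := good_map hM (by rw [map_smul, hv, smul_zero]) (hroot γ) (h.idet_uTv ht)
    rwa [map_smul, htv] at this
  have hvv' : B v v' = c := by simp [v', hv, hvw]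
  have hv'v : B v' v = σ c := by rw [← h.symm, hvv']
  obtain ⟨κ, hκ⟩ := h.conj.exists_not_fixed
  clear_value v'
  set a := v' + κ • v with ha
  set b := v' + σ κ • v with hb
  have hσc : σ c = -c := by linear_combination hc
  have hba : B b a = 0 := by
    simp only [ha, hb, map_add, map_smul, map_smulₛₗ, LinearMap.add_apply, LinearMap.smul_apply, smul_eq_mul,
      h.conj.invol, hv, hv', hvv', hv'v, hσc]
    ring
  refine ⟨a, b, ?_, hba, ?_, fun l => ?_⟩
  · have e : B a a = c * (σ κ - κ) := by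
      simp only [ha, map_add, map_smul, map_smulₛₗ, LinearMap.add_apply, LinearMap.smul_apply, smul_eq_mul,
        hv, hv', hvv', hv'v, hσc, RingHom.id_apply]
      ring
    rw [e]
    exact mul_ne_zero hc0 (sub_ne_zero.2 hκ)
  · intro e
    have := congrArg (B v) e
    rw [hb, map_add, map_smul, hv, hvv', smul_zero, add_zero, map_zero] at this
    exact hc0 this
  set X := trGL ((κ / c) • v) (funVec (B v)) (hdot (by rw [map_smul, hv, smul_zero]))
  have hX : ∀ x, (X : Matrix (Fin n) (Fin n) F) *ᵥ x = x + B v x • ((κ / c) • v) := fun x => by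
    rw [trGL_mulVec, funVec_dot]
  have hXM : X ∈ M := hroot _ _
  have hroot'' : GoodPair B M (σ l • v') v' := hroot' _
  have e' : B v' (σ l • v') = 0 := by rw [map_smul, hv', smul_zero]
  haveI := Fintype.ofFinite F
  intro hab
  convert M.mul_mem (M.mul_mem hXM (hroot'' (hdot e'))) (M.inv_mem hXM) using 1
  rw [SimMax.conj_eq_trGL (g := X) (h := hdot e') (h' := hab) fun x => ?_]
  have hXv' : (X : Matrix (Fin n) (Fin n) F) *ᵥ v' = a := by
    rw [hX, hvv', smul_smul, mul_div_cancel₀ _ hc0]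
  rw [mulVec_smul, hXv', funVec_dot, funVec_dot, smul_smul]
  congr 1
  simp only [hX, hb, map_add, map_smul, map_smulₛₗ, LinearMap.add_apply, LinearMap.smul_apply, smul_eq_mul,
    h.conj.invol, hv, hv'v, hσc]
  field_simp
  ring

/-- An anisotropic centre with all axes. -/
theorem full_of_line (hn : n = 3) {a b : Fin n → F} (ha : B a a ≠ 0) (e : B b a = 0) (hb : b ≠ 0)
    (hline : ∀ l : F, GoodPair B M a (l • b)) {y : Fin n → F} (hy : B a y = 0) : GoodPair B M a y := by
  let S : Submodule F (Fin n → F) :=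
    { carrier := {x | B x a = 0 ∧ ∀ l : F, GoodPair B M a (l • x)}
      zero_mem' := ⟨by simp, fun l => by rw [smul_zero]; exact good_zero_right a⟩
      add_mem' := fun {u w} hu hw => ⟨by rw [map_add, LinearMap.add_apply, hu.1, hw.1, add_zero], fun l => by
        rw [smul_add]
        exact good_add_right (by rw [map_smulₛₗ, LinearMap.smul_apply, hu.1, smul_zero])
          (by rw [map_smulₛₗ, LinearMap.smul_apply, hw.1, smul_zero]) (hu.2 l) (hw.2 l)⟩
      smul_mem' := fun r u hu => ⟨by rw [map_smulₛₗ, LinearMap.smul_apply, hu.1, smul_zero], fun l => by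
        rw [smul_smul]; exact hu.2 _⟩ }
  have hab : B a b = 0 := h.isRefl _ _ e
  set U := perp B (Submodule.span F {a})
  have hU : ∀ {z}, z ∈ U ↔ B a z = 0 := fun {z} => by
    refine ⟨fun hz => mem_perp.1 hz a (Submodule.mem_span_singleton_self a), fun hz => mem_perp.2 fun w hw => ?_⟩
    obtain ⟨c, rfl⟩ := Submodule.mem_span_singleton.1 hw
    rw [map_smulₛₗ, LinearMap.smul_apply, hz, smul_zero]
  have hnd : NondegOn B U := nondegOn_perp hN (h.nondegOn_span_singleton ha)
  have hUd : 2 ≤ finrank F U := by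
    have h2 := finrank_le_finrank_perp_add B (Submodule.span F {a})
    have h1 : finrank F (Submodule.span F {a}) ≤ 1 := by
      refine (finrank_span_le_card _).trans ?_
      simp
    have h3 : finrank F (Fin n → F) = n := Module.finrank_fin_fun F
    change 2 ≤ finrank F (perp B (Submodule.span F {a}))
    omega
  obtain ⟨c, hc0, hc⟩ := h.conj.exists_trace_zero
  have step : ∀ {x v : Fin n → F}, x ∈ S → v ∈ U → B v v = 0 → B v x ≠ 0 → v ∈ S := by
    intro x v hx hv hvv hvx
    have hva : B v a = 0 := h.isRefl _ _ (hU.1 hv)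
    obtain ⟨t, ht⟩ := h.exists_uTv hN hvv hc
    have hta : t.1 a = a := by rw [ht.2.2, hva, mul_zero, zero_smul, add_zero]
    refine (Submodule.smul_mem_iff S (mul_ne_zero hc0 hvx)).1 ?_
    have h1 : t.1 x ∈ S := by
      refine ⟨by rw [← hta, isomGroup_apply]; exact hx.1, fun l => ?_⟩
      have := good_map hM (by rw [map_smulₛₗ, LinearMap.smul_apply, hx.1, smul_zero]) (hx.2 l) (h.idet_uTv ht)
      rwa [hta, map_smul] at this
    have h2 := S.sub_mem h1 hx
    rwa [ht.2.2, add_sub_cancel_left] at h2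
  have hbS : b ∈ S := ⟨e, hline⟩
  obtain ⟨v₀, hv₀, hv₀v, hvx⟩ : ∃ v ∈ U, B v v = 0 ∧ B v b ≠ 0 := by
    by_contra hall
    push Not at hall
    refine hb (nondegOn_iff.1 hnd b (hU.2 hab) fun z hz => ?_)
    have key : ∀ u ∈ Submodule.span F {x | x ∈ U ∧ B x x = 0}, B u b = 0 := fun u hu => by
      induction hu using Submodule.span_induction with
      | mem u hu => exact hall u hu.1 hu.2
      | zero => simp
      | add u w _ _ hu hw => simp [hu, hw]
      | smul r u _ hu => simp [hu]
    exact key z (h.le_span_isotropic hnd hUd hz)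
  have hv00 : v₀ ≠ 0 := fun e0 => hvx (by simp [e0])
  have hv₀S := step hbS hv₀ hv₀v hvx
  have hyS : y ∈ S := (Submodule.span_le (p := S)).2 (fun v hv => by
    by_cases hv0 : v = 0
    · rw [hv0]; exact S.zero_mem
    obtain ⟨z, hz, hzz, hz1, hz2⟩ := h.exists_common_nonorth hnd hv₀ hv.1 hv00 hv0 hv₀v hv.2
    exact step (step hv₀S hz hzz fun e0 => hz1 (h.isRefl _ _ e0)) hv.1 hv.2 hz2)
    (h.le_span_isotropic hnd hUd (hU.2 hy))
  have := hyS.2 1
  rwa [one_smul] at this

/-- The main theorem. -/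
theorem gsim_le_three (hn : n = 3) {g : GL (Fin n) F} (hg : g ∈ M)
    (hgs : ¬ ∃ c : Fˣ, ∀ u v, B ((g : Matrix (Fin n) (Fin n) F) *ᵥ u) ((g : Matrix (Fin n) (Fin n) F) *ᵥ v) = c * B u v) :
    Cfsg.Geo.specialLinear (Fin n) F ≤ M := by
  classical
  haveI := Fintype.ofFinite F
  obtain ⟨a₀, b₀, hi, e₀, hg₀⟩ := exists_pair h hN (by omega) hM hg hgs
  obtain ⟨v, hv, hv0, hroot⟩ := exists_root h hN hM hn hi e₀ hg₀
  obtain ⟨a, b, ha, e, hb, hline⟩ := exists_line h hN hM hv hv0 hroot
  have hfull : Full M a := fun f hf => by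
    obtain ⟨y, hy⟩ := h.exists_form_eq hN (dotProductBilin F F f)
    have hy' : ∀ x, B y x = f ⬝ᵥ x := hy
    have hya : B y a = 0 := by rw [hy', hf]
    have := full_of_line h hN hM hn ha e hb hline (h.isRefl _ _ hya) (hdot hya)
    rwa [trGL_congr (h' := hf) fun x => by rw [funVec_dot, hy']] at this
  refine sl_le_of_fullCentres ?_
  set W := fullCentres M
  have hnd : NondegOn B (⊤ : Submodule F (Fin n → F)) :=
    nondegOn_iff.2 fun y _ hy => hN y fun w => hy w trivial
  have hd : 2 ≤ finrank F (⊤ : Submodule F (Fin n → F)) := by rw [finrank_top, Module.finrank_fin_fun]; omega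
  obtain ⟨c, hc0, hc⟩ := h.conj.exists_trace_zero
  have step : ∀ {x v : Fin n → F}, x ∈ W → B v v = 0 → B v x ≠ 0 → v ∈ W := fun {x v} hx hvv hvx => by
    obtain ⟨t, ht⟩ := h.exists_uTv hN hvv hc
    have h1 : (linToGL t.1 : Matrix (Fin n) (Fin n) F) *ᵥ x ∈ W := Full.map hx (hM t (h.idet_uTv ht))
    rw [linToGL_mulVec, ht.2.2] at h1
    have h2 := W.sub_mem h1 hx
    rw [add_sub_cancel_left] at h2
    exact (Submodule.smul_mem_iff W (mul_ne_zero hc0 hvx)).1 h2
  obtain ⟨v₀, hv₀, hva⟩ : ∃ v, B v v = 0 ∧ B v a ≠ 0 := by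
    by_contra hall
    push Not at hall
    refine ha ?_
    have key : ∀ u ∈ Submodule.span F {x | x ∈ (⊤ : Submodule F (Fin n → F)) ∧ B x x = 0}, B u a = 0 := fun u hu => by
      induction hu using Submodule.span_induction with
      | mem u hu => exact hall u hu.2
      | zero => simp
      | add u w _ _ hu hw => simp [hu, hw]
      | smul r u _ hu => simp [hu]
    exact key a (h.le_span_isotropic hnd hd trivial)
  have hv00 : v₀ ≠ 0 := fun e0 => hva (by simp [e0])
  have hv₀W : v₀ ∈ W := step (show a ∈ W from hfull) hv₀ hva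
  refine eq_top_iff.2 fun x _ => ?_
  refine (Submodule.span_le (p := W)).2 (fun v hv => ?_) (h.le_span_isotropic hnd hd (Submodule.mem_top (x := x)))
  by_cases hv0 : v = 0
  · rw [hv0]; exact W.zero_mem
  obtain ⟨z, -, hzz, hz1, hz2⟩ := h.exists_common_nonorth hnd (U := ⊤) trivial trivial hv00 hv0 hv₀ hv.2
  exact step (step hv₀W hzz fun e0 => hz1 (h.isRefl _ _ e0)) hv.2 hz2

omit hM in
theorem exists_sl_not_similar (hn : 2 ≤ n) : ∃ g ∈ Cfsg.Geo.specialLinear (Fin n) F,
    ¬ ∃ c : Fˣ, ∀ u v, B ((g : Matrix (Fin n) (Fin n) F) *ᵥ u) ((g : Matrix (Fin n) (Fin n) F) *ᵥ v) = c * B u v := by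
  have hnd : NondegOn B (⊤ : Submodule F (Fin n → F)) :=
    nondegOn_iff.2 fun y _ hy => hN y fun w => hy w trivial
  obtain ⟨e, f, -, -, hee, hff, hef⟩ := h.exists_hyp_in hnd (by rw [finrank_top, Module.finrank_fin_fun]; omega)
  obtain ⟨γ, hγ⟩ := h.conj.exists_trace_ne_zero
  have hd : funVec (B e) ⬝ᵥ (γ • e) = 0 := by rw [funVec_dot, map_smul, hee, smul_zero]
  refine ⟨trGL (γ • e) (funVec (B e)) hd, trGL_mem_sl _ _ _, fun ⟨c, hc⟩ => ?_⟩
  have := hc f f
  have hfe : B f e = 1 := by rw [← h.symm, hef, map_one]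
  rw [trGL_mulVec, funVec_dot, hef, one_smul, hff, mul_zero] at this
  simp only [map_add, map_smul, map_smulₛₗ, LinearMap.add_apply, LinearMap.smul_apply, smul_eq_mul,
    RingHom.id_apply, hee, hff, hef, hfe] at this
  exact hγ (by linear_combination this)

end CfsgLib.Classical.GeoThree.UnitThree

namespace CfsgLib.Classical.GeoThree

open Cfsg

theorem unitary_maximal {F : Type*} [Field F] [Fintype F] (n : ℕ) (hn : n = 3) (σ : F ≃+* F) (f : (Fin n → F) → (Fin n → F) → F) (hf : Cfsg.Geo.IsUnitaryForm σ f) : Cfsg.Geo.IsMaximalIn (Cfsg.Geo.specialLinear (Fin n) F) (Cfsg.Geo.similarityGroup f ⊓ Cfsg.Geo.specialLinear (Fin n) F) := by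
  let s : F →+* F := σ.toRingHom
  have hconj : CfsgLib.Classical.IsConjugation s := ⟨hf.involutive, fun e => hf.ne_refl (RingEquiv.ext fun x =>
    RingHom.congr_fun e x)⟩
  have haddr : ∀ x y v, f v (x + y) = f v x + f v y := fun x y v => by
    rw [hf.herm v (x + y), hf.add_left, map_add, ← hf.herm, ← hf.herm]
  have hsmulr : ∀ (c : F) x v, f v (c • x) = σ c * f v x := fun c x v => by
    rw [hf.herm v (c • x), hf.smul_left, map_mul, ← hf.herm]
  let B : (Fin n → F) →ₛₗ[s] (Fin n → F) →ₗ[F] F :=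
    LinearMap.mk₂'ₛₗ s (RingHom.id F) (fun x y => f y x) (fun x x' y => haddr x x' y)
      (fun c x y => hsmulr c x y) (fun x y y' => hf.add_left y y' x) (fun c x y => hf.smul_left c y x)
  have hB : CfsgLib.Classical.IsHermitian B := ⟨hconj, fun x y => (hf.herm x y).symm⟩
  have hN : B.SeparatingRight := fun y hy => by
    by_contra hne
    obtain ⟨x, hx⟩ := (hf.nondegenerate y hne).2
    exact hx (hy x)
  have hiff : ∀ g : GL (Fin n) F, g ∈ Cfsg.Geo.similarityGroup f ↔ ∃ c : Fˣ, ∀ u v,
      B ((g : Matrix (Fin n) (Fin n) F).mulVec u) ((g : Matrix (Fin n) (Fin n) F).mulVec v) = c * B u v := fun g =>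
    ⟨fun ⟨c, hc⟩ => ⟨c, fun u v => hc v u⟩, fun ⟨c, hc⟩ => ⟨c, fun u v => hc v u⟩⟩
  refine ⟨lt_of_le_not_ge inf_le_right fun hle => ?_, fun M hM hMS => ?_⟩
  · obtain ⟨g, hg, hgn⟩ := UnitThree.exists_sl_not_similar hB hN (by omega)
    exact hgn ((hiff g).1 (hle hg).1)
  · by_cases hMs : M ≤ Cfsg.Geo.similarityGroup f
    · exact Or.inl (le_antisymm (le_inf hMs hMS) hM)
    obtain ⟨g, hg, hgs⟩ := SetLike.not_le_iff_exists.1 hMs
    refine Or.inr (le_antisymm hMS (UnitThree.gsim_le_three hB hN (fun t ht => hM ?_) hn hg fun hc => hgs ((hiff g).2 hc)))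
    refine Subgroup.mem_inf.2 ⟨(hiff _).2 ⟨1, fun u v => ?_⟩, CfsgLib.Classical.mem_specialLinear_iff.2 ?_⟩
    · rw [CfsgLib.Classical.linToGL_mulVec, CfsgLib.Classical.linToGL_mulVec, Units.val_one, one_mul]
      exact t.2 u v
    · change (LinearMap.toMatrix' (t.1 : (Fin n → F) →ₗ[F] (Fin n → F))).det = 1
      rw [LinearMap.det_toMatrix']
      exact ht

end CfsgLib.Classical.GeoThree
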